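import Groth.Agent.BlowPn.Twists
import Groth.Agent.PBundle.Euler
import Groth.Agent.PnHodge.Euler
import Mathlib

/-!
# Epimorphisms `O^{n+1} → π^*O(1)` and `O^n → π^*O(1) ⊗ E` on the blow-up in a point
-/

set_option autoImplicit false
set_option backward.isDefEq.respectTransparency false
set_option backward.isDefEq.respectTransparency.types false
set_option maxHeartbeats 1000000

universe u

open CategoryTheory CategoryTheory.Limits AlgebraicGeometry TopologicalSpace Opposite
open Groth.Agent.QC (res resO res_res res_smul app_res)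

noncomputable section

namespace Groth.Agent.BlowPn

variable {k : Type u} [Field k] [IsAlgClosed k] {n : ℕ}

local notation "O1" => SerrePn.Om k n ((1 : ℕ) : ℤ)

omit [IsAlgClosed k] in
theorem exists_epi_one {X : Scheme.{u}} (π : X ⟶ CohB1.ProjSpace n k) :
    ∃ q : FlatMod.freeMod X (n + 1) ⟶ (Scheme.Modules.pullback π).obj (SerrePn.Om k n ((1 : ℕ) : ℤ)), Epi q := by
  haveI := PnHodge.quasiSeparated_toSpec n k
  have hP := CycPB.isProjBundle_projSpace n k
  haveI := hP.epi
  let a := DerPerf.pullFreeIso (CohB1.ProjSpace.toSpec n k) (n + 1)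
  let q₀ := PBundle.mk (CohB1.ProjSpace.toSpec n k) fun i => ProjUP.coord n k i
  haveI : Epi ((Scheme.Modules.pullback π).map q₀) := inferInstance
  exact ⟨(DerPerf.pullFreeIso π (n + 1)).inv ≫ (Scheme.Modules.pullback π).map a.inv ≫
    (Scheme.Modules.pullback π).map q₀, inferInstance⟩

/-- linear forms cutting out a rational point -/
theorem exists_forms (p : ↥(CohB1.ProjSpace n k)) (hp : IsClosed ({p} : Set ↥(CohB1.ProjSpace n k))) :
    ∃ l : Fin n → Γ(O1, ⊤), ∀ z : ↥(CohB1.ProjSpace n k),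
      ∃ (W : (CohB1.ProjSpace n k).affineOpens) (e : Γ(O1, W.1)) (y : Fin n → Γ(CohB1.ProjSpace n k, W.1)),
        z ∈ W.1 ∧ TMul.IsGen e ∧ (∀ j, res O1 (le_top : W.1 ≤ ⊤) (l j) = y j • e) ∧
        (∀ j, y j ∈ (Scheme.IdealSheafData.vanishingIdeal ⟨{p}, hp⟩).ideal W) ∧
        (Scheme.IdealSheafData.vanishingIdeal ⟨{p}, hp⟩).ideal W ≤ Ideal.span (Set.range y) := by
  obtain ⟨i', hi⟩ := CohFinite.cov_X n k p
  obtain ⟨i⟩ := i'
  let U : (CohB1.ProjSpace n k).affineOpens :=
    ⟨Proj.basicOpen (CohB1.polyGrading n k) (MvPolynomial.X i),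
      Proj.isAffineOpen_basicOpen (CohB1.polyGrading n k) _ (SerrePn.xForm i).2 Nat.one_pos⟩
  have hpU : p ∈ U.1 := (ProjectiveSpectrum.mem_basicOpen _ _ p).mpr hi
  let Ip := Scheme.IdealSheafData.vanishingIdeal (⟨{p}, hp⟩ : Closeds ↥(CohB1.ProjSpace n k))
  let cst : k →+* Γ(CohB1.ProjSpace n k, U.1) :=
    (resO (CohB1.ProjSpace n k) (le_top : U.1 ≤ ⊤)).comp (Coh.toGlobal (CohB1.ProjSpace.toSpec n k))
  have hC : ∀ r : k, dehX i (MvPolynomial.C r) = cst r := fun r =>
    (ProjMor.res_toGlobal_base (CohB1.polyGrading n k) (SerrePn.xForm i).2 r).symm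
  choose b hb using fun j : Fin (n + 1) => exists_const p hp U hpU (dehX i (MvPolynomial.X j))
  let m : Fin n → SerrePn.Forms k n := fun j => SerrePn.xForm (i.succAbove j) - b (i.succAbove j) • SerrePn.xForm i
  let y₀ : Fin n → Γ(CohB1.ProjSpace n k, U.1) := fun j => dehX i (m j : MvPolynomial (Fin (n + 1)) k)
  have hy₀ : ∀ j, y₀ j = dehX i (MvPolynomial.X (i.succAbove j)) - cst (b (i.succAbove j)) := fun j => by
    show dehX i (MvPolynomial.X (i.succAbove j) - b (i.succAbove j) • MvPolynomial.X i) = _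
    rw [map_sub, MvPolynomial.smul_eq_C_mul, map_mul, hC]
    exact congrArg _ ((congrArg (cst _ * ·) (GrT.deh_self _ (SerrePn.xForm i).2)).trans (mul_one _))
  have hyI : ∀ j, y₀ j ∈ Ip.ideal U := fun j => by rw [hy₀]; exact hb _
  have hne : ∀ r : k, cst r ∈ Ip.ideal U → r = 0 := fun r h => by
    by_contra h0
    have h1 : (1 : Γ(CohB1.ProjSpace n k, U.1)) ∈ Ip.ideal U := by
      have := (Ip.ideal U).mul_mem_left (cst r⁻¹) h
      rwa [← map_mul, inv_mul_cancel₀ h0, map_one] at this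
    have h' := Scheme.IdealSheafData.mem_support_iff_of_mem (I := Ip) hpU
    have hsup : p ∈ Ip.support := by
      rw [← SetLike.mem_coe, Scheme.IdealSheafData.coe_support_vanishingIdeal]
      exact rfl
    have h2 := (Scheme.mem_zeroLocus_iff _ _ _).1 (h'.1 hsup) 1 h1
    rw [Scheme.basicOpen_of_isUnit _ isUnit_one] at h2
    exact h2 hpU
  have hgen : ∀ Q : MvPolynomial (Fin (n + 1)) k, ∃ r : k, dehX i Q - cst r ∈ Ideal.span (Set.range y₀) := by
    intro Q
    induction Q using MvPolynomial.induction_on with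
    | C r => exact ⟨r, by rw [hC, sub_self]; exact Submodule.zero_mem _⟩
    | add P Q hP hQ =>
      obtain ⟨r, hr⟩ := hP
      obtain ⟨r', hr'⟩ := hQ
      refine ⟨r + r', ?_⟩
      have h := Submodule.add_mem _ hr hr'
      rw [map_add, map_add]
      convert h using 1
      abel
    | mul_X P j hP =>
      obtain ⟨r, hr⟩ := hP
      have hj : ∃ r' : k, dehX i (MvPolynomial.X j) - cst r' ∈ Ideal.span (Set.range y₀) := by
        rcases Fin.eq_self_or_eq_succAbove i j with rfl | ⟨j', rfl⟩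
        · refine ⟨1, ?_⟩
          rw [map_one, show dehX j (MvPolynomial.X j) = 1 from GrT.deh_self _ (SerrePn.xForm j).2, sub_self]
          exact Submodule.zero_mem _
        · exact ⟨b (i.succAbove j'), by rw [← hy₀]; exact Ideal.subset_span ⟨j', rfl⟩⟩
      obtain ⟨r', hr'⟩ := hj
      refine ⟨r * r', ?_⟩
      rw [map_mul, map_mul]
      have h := Submodule.add_mem _ (Ideal.mul_mem_right (dehX i (MvPolynomial.X j)) _ hr)
        (Ideal.mul_mem_left _ (cst r) hr')
      convert h using 1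
      ring
  have hspan : Ip.ideal U ≤ Ideal.span (Set.range y₀) := fun a ha => by
    obtain ⟨Q, hQ⟩ := ProjMor.exists_deh_eq (SerrePn.xForm i).2 a
    obtain ⟨r, hr⟩ := hgen Q
    replace hr : a - cst r ∈ Ideal.span (Set.range y₀) := by rw [← hQ]; exact hr
    have hr0 : r = 0 := hne r (by
      have := (Ip.ideal U).sub_mem ha (Ideal.span_le.2 (Set.range_subset_iff.2 hyI) hr)
      rwa [sub_sub_cancel] at this)
    rw [hr0, map_zero, sub_zero] at hr
    exact hr
  refine ⟨fun j => SerrePn.formSec (m j), fun z => ?_⟩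
  by_cases hz : z = p
  · subst hz
    exact ⟨U, res O1 le_top (SerrePn.formSec (SerrePn.xForm i)), y₀, hpU, SerrePn.isGen_formSec (SerrePn.xForm i),
      fun j => res_formSec i (m j), hyI, hspan⟩
  · obtain ⟨j₀, hj₀⟩ : ∃ j, (m j : MvPolynomial (Fin (n + 1)) k) ∉ z.asHomogeneousIdeal := by
      by_contra hall
      push Not at hall
      have hX : ∀ j, MvPolynomial.X (R := k) (i.succAbove j) - b (i.succAbove j) • MvPolynomial.X i ∈
          z.asHomogeneousIdeal.toIdeal := fun j => hall j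
      have hiz : MvPolynomial.X (R := k) i ∉ z.asHomogeneousIdeal := fun hiz => by
        obtain ⟨l, hl⟩ := CohFinite.cov_X n k z
        refine hl ?_
        rcases Fin.eq_self_or_eq_succAbove i l.down with h | ⟨j, h⟩
        · rw [h]; exact hiz
        · rw [h]
          have := z.asHomogeneousIdeal.toIdeal.add_mem (hX j)
            (show b (i.succAbove j) • MvPolynomial.X (R := k) i ∈ z.asHomogeneousIdeal.toIdeal by
              rw [MvPolynomial.smul_eq_C_mul]; exact z.asHomogeneousIdeal.toIdeal.mul_mem_left (MvPolynomial.C (b (i.succAbove j))) hiz)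
          rwa [sub_add_cancel] at this
      have hzU : z ∈ U.1 := (ProjectiveSpectrum.mem_basicOpen _ _ z).mpr hiz
      refine hz ?_
      have hsup : z ∈ Ip.support := by
        refine (Scheme.IdealSheafData.mem_support_iff_of_mem (I := Ip) hzU).2 ?_
        rw [Scheme.mem_zeroLocus_iff]
        intro f hf hzf
        have hle : ∀ f ∈ Ideal.span (Set.range y₀), z ∉ (CohB1.ProjSpace n k).basicOpen f := by
          intro f hf
          refine Submodule.span_induction (p := fun f _ => z ∉ (CohB1.ProjSpace n k).basicOpen f) ?_ ?_ ?_ ?_ hf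
          · rintro _ ⟨j, rfl⟩ hzj
            have hd := GrT.basicOpen_away (CohB1.polyGrading n k) (SerrePn.xForm i).2 Nat.one_pos Nat.one_pos
              (GrT.mem_smul_one _ (m j).2)
            rw [← GrT.deh_of_mem _ (SerrePn.xForm i).2 (m j).2] at hd
            have hm : z ∈ Proj.basicOpen (CohB1.polyGrading n k) ((MvPolynomial.X i) * (m j : MvPolynomial (Fin (n + 1)) k)) :=
              hd.le hzj
            rw [Proj.basicOpen_mul] at hm
            exact (ProjectiveSpectrum.mem_basicOpen _ _ z).1 hm.2 (hall j)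
          · rw [Scheme.basicOpen_zero]; exact id
          · intro a c _ _ ha hc h
            exact (Scheme.basicOpen_add_le _ a c h).elim ha hc
          · intro a c _ hc h
            rw [smul_eq_mul, Scheme.basicOpen_mul] at h
            exact hc h.2
        exact hle f (hspan hf) hzf
      rw [← SetLike.mem_coe, Scheme.IdealSheafData.coe_support_vanishingIdeal] at hsup
      exact hsup
    let D : (CohB1.ProjSpace n k).Opens :=
      Proj.basicOpen (CohB1.polyGrading n k) (m j₀ : MvPolynomial (Fin (n + 1)) k) ⊓ ⟨({p} : Set _)ᶜ, hp.isOpen_compl⟩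
    obtain ⟨W, hW, hzW, hWD⟩ := exists_isAffineOpen_mem_and_subset (show z ∈ D from
      ⟨(ProjectiveSpectrum.mem_basicOpen _ _ z).mpr hj₀, hz⟩)
    let e : Γ(O1, W) := res O1 (hWD.trans inf_le_left) (res O1 le_top (SerrePn.formSec (m j₀)))
    have he : TMul.IsGen e := (SerrePn.isGen_formSec (m j₀)).res _
    choose y hy using fun j => (he W le_rfl).2 (res O1 le_top (SerrePn.formSec (m j)))
    simp only [Groth.Agent.QC.res_self] at hy
    have htop : Ip.ideal ⟨W, hW⟩ = ⊤ := BlowBC.ideal_eq_top_of_notMem _ _ fun w hw hws => by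
      rw [← SetLike.mem_coe, Scheme.IdealSheafData.coe_support_vanishingIdeal] at hws
      exact (hWD hw).2 hws
    refine ⟨⟨W, hW⟩, e, y, hzW, he, fun j => (hy j).symm, fun j => by show _ ∈ Ip.ideal _; rw [htop]; trivial, ?_⟩
    have h1 : y j₀ = 1 := (he W le_rfl).1 (by
      show _ • res O1 le_rfl e = _ • res O1 le_rfl e
      rw [Groth.Agent.QC.res_self, one_smul, hy j₀]
      exact (res_res _ _ _ _).symm)
    refine fun a _ => ?_
    rw [← mul_one a, ← h1]
    exact Ideal.mul_mem_left _ _ (Ideal.subset_span ⟨j₀, rfl⟩)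

end Groth.Agent.BlowPn

namespace Groth.Agent.BlowPn

variable {k : Type u} [Field k] [IsAlgClosed k] {n : ℕ}

/-- `π^*O(1) ⊗ E` is generated by `n` sections -/
theorem exists_epi_exc (hn : 0 < n) (p : ↥(CohB1.ProjSpace n k)) (hp : IsClosed ({p} : Set ↥(CohB1.ProjSpace n k)))
    {X : Scheme.{u}} (π : X ⟶ CohB1.ProjSpace n k) :
    ∃ q : FlatMod.freeMod X n ⟶
      Tw π (Scheme.IdealSheafData.vanishingIdeal ⟨{p}, hp⟩) (SerrePn.Om k n ((1 : ℕ) : ℤ)), Epi q := by
  let K := Scheme.IdealSheafData.vanishingIdeal (⟨{p}, hp⟩ : Closeds ↥(CohB1.ProjSpace n k))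
  let E := SerrePn.Om k n ((1 : ℕ) : ℤ)
  have hE : PicF.IsInvertible E := CohFinite.isInvertible_twist n k _
  obtain ⟨l, hl⟩ := exists_forms p hp
  let η := (Scheme.Modules.pullbackPushforwardAdjunction π).unit.app E
  let φ : E ⟶ (Scheme.Modules.pushforward π).obj (seq π K E).X₂ :=
    η ≫ (Scheme.Modules.pushforward π).map (TMul.leftUnitIso ((Scheme.Modules.pullback π).obj E)).inv
  let ψ : E ⟶ (Scheme.Modules.pushforward π).obj (TwQ π K E) :=
    φ ≫ (Scheme.Modules.pushforward π).map (seq π K E).g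
  have hlift : ∀ j, ∃ σ : Γ((seq π K E).X₁, ⊤), (seq π K E).f.app ⊤ σ = φ.app ⊤ (l j) := by
    intro j
    refine BlowCech.exists_of_app_eq_zero (seq_shortExact π hE) ⊤ _ ?_
    refine Groth.Agent.QC.section_eq_of_locally (M := TwQ π K E) (U := ⊤) fun x _ => ?_
    obtain ⟨W, e, y, hzW, -, hy, hyI, -⟩ := hl (π x)
    refine ⟨π ⁻¹ᵁ W.1, le_top, hzW, ?_⟩
    rw [map_zero]
    refine (Groth.Agent.QC.app_res ψ (le_top : W.1 ≤ ⊤) (l j)).trans ?_
    rw [hy j, Scheme.Modules.Hom.app_smul]
    exact twQ_smul π hE (hyI j) (ψ.app W.1 e)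
  choose σ hσ using hlift
  let q : FlatMod.freeMod X n ⟶ Tw π K E := Sigma.desc fun j => GrT.homOfSection (Tw π K E) (σ j)
  refine ⟨q, InvGen.epi_of_locally _ fun U t x hx => ?_⟩
  obtain ⟨W, e, y, hzW, he, hy, -, hspan⟩ := hl (π x)
  obtain ⟨V, hV, hxV, hVle⟩ := exists_isAffineOpen_mem_and_subset (X := X) (U := U ⊓ π ⁻¹ᵁ W.1) ⟨hx, hzW⟩
  have hVW : V ≤ π ⁻¹ᵁ W.1 := hVle.trans inf_le_right
  let e' : Γ((Scheme.Modules.pullback π).obj E, V) := res _ hVW (η.app W.1 e)
  have he' : TMul.IsGen e' := (isGen_pullback π he).res hVW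
  let R : Set Γ(X, V) := {r | ∃ w, (seq π K E).f.app V (q.app V w) =
    TMul.tm (M := Coh.structureModule X) r e'}
  have hR : ∀ r ∈ (K.comap π).ideal ⟨V, hV⟩, r ∈ R := by
    rw [FpqcDescent.ideal_comap_appLE K π W ⟨V, hV⟩ hVW]
    intro r hr
    have hr' := Ideal.map_mono hspan hr
    rw [Ideal.map_span] at hr'
    refine Submodule.span_induction (p := fun r _ => r ∈ R) ?_ ?_ ?_ ?_ hr'
    · rintro _ ⟨_, ⟨j, rfl⟩, rfl⟩
      refine ⟨(Sigma.ι (fun _ : Fin n => Coh.structureModule X) j).app V (1 : Γ(X, V)), ?_⟩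
      have h1 : q.app V ((Sigma.ι (fun _ : Fin n => Coh.structureModule X) j).app V (1 : Γ(X, V))) =
          res (Tw π K E) le_top (σ j) := by
        show (Sigma.ι (fun _ : Fin n => Coh.structureModule X) j ≫ q).app V (1 : Γ(X, V)) = _
        rw [Sigma.ι_desc, GrT.homOfSection_app]
        exact one_smul _ _
      rw [h1, ← app_res, hσ j]
      refine (res_res _ hVW (le_top : π ⁻¹ᵁ W.1 ≤ ⊤) _).symm.trans ?_
      rw [show res (seq π K E).X₂ (le_top : π ⁻¹ᵁ W.1 ≤ ⊤) (φ.app ⊤ (l j)) = φ.app W.1 (res E le_top (l j)) from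
        Groth.Agent.QC.app_res φ (le_top : W.1 ≤ ⊤) (l j), hy j, Scheme.Modules.Hom.app_smul]
      refine (res_smul _ hVW (π.app W.1 (y j)) (show Γ((seq π K E).X₂, π ⁻¹ᵁ W.1) from φ.app W.1 e)).trans ?_
      rw [show π.appLE W.1 V hVW (y j) = resO X hVW (π.app W.1 (y j)) from rfl]
      have h2 : res (seq π K E).X₂ hVW (φ.app W.1 e) = TMul.tm (M := Coh.structureModule X) (1 : Γ(X, V)) e' := by
        refine (ConcreteCategory.bijective_of_isIso
          ((TMul.leftUnitIso ((Scheme.Modules.pullback π).obj E)).hom.app V)).1 ?_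
        refine Eq.trans ?_ ((CurveRR.leftUnitIso_tm _ (1 : Γ(X, V)) e').trans (one_smul _ _)).symm
        rw [← app_res]
        refine congrArg (res _ hVW) ?_
        exact congrArg (fun χ : (Scheme.Modules.pullback π).obj E ⟶ (Scheme.Modules.pullback π).obj E =>
          χ.app (π ⁻¹ᵁ W.1) (η.app W.1 e)) (TMul.leftUnitIso ((Scheme.Modules.pullback π).obj E)).inv_hom_id
      rw [h2, ← TMul.smul_tm]
      exact congrArg (fun r : Γ(X, V) => TMul.tm (M := Coh.structureModule X) r e') (mul_one (resO X hVW (π.app W.1 (y j))))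
    · exact ⟨0, by rw [map_zero, map_zero]; exact (TMul.zero_tm _).symm⟩
    · rintro a b _ _ ⟨w, hw⟩ ⟨w', hw'⟩
      exact ⟨w + w', by rw [map_add, map_add, hw, hw']; exact (TMul.tm_add _ _ _).symm⟩
    · rintro c a _ ⟨w, hw⟩
      refine ⟨c • w, ?_⟩
      rw [Scheme.Modules.Hom.app_smul, Scheme.Modules.Hom.app_smul, hw, ← TMul.smul_tm]
  obtain ⟨m, hm⟩ := (TMul.tm_bijective (M := ClSub.idealMod (K.comap π)) he' V le_rfl).2 (res _ (hVle.trans inf_le_left) t)
  simp only [Groth.Agent.QC.res_self] at hm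
  obtain ⟨w, hw⟩ := hR ((ClSub.idealModι (K.comap π)).app V m)
    ((QC.mem_range_idealModι_affine (K.comap π) ⟨V, hV⟩ _).1 ⟨m, rfl⟩)
  refine ⟨V, hVle.trans inf_le_left, hxV, w, ?_⟩
  haveI := (seq_shortExact π (K := K) hE).mono_f
  refine QC.app_injective_of_mono (seq π K E).f V ?_
  rw [hw, ← hm]
  exact (CohFinite.tmap_tm _ _ _ _).symm

end Groth.Agent.BlowPn
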