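import Groth.Agent.BlowPn.InvPow
import Groth.Agent.BlowCech.InvExcPush
import Groth.Agent.PtBlow.H1Tools
import Mathlib

/-!
# Twists by small negative powers of the exceptional ideal have the cohomology of the base
-/

set_option autoImplicit false
set_option backward.isDefEq.respectTransparency false
set_option backward.isDefEq.respectTransparency.types false
set_option maxHeartbeats 1000000
set_option linter.style.haveILetI false

universe u

open CategoryTheory CategoryTheory.Limits AlgebraicGeometry TopologicalSpace Opposite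
open Groth.Agent.SiteCoh
open Groth.Agent.QC (res resO res_res res_smul app_res)

noncomputable section

namespace Groth.Agent.BlowPn

open Wiebe (Acyclic)
open Groth.Agent.BlowCech (LocData)

variable {X Y : Scheme.{u}} (σ : X ⟶ Y) {Z : Scheme.{u}} (i : Z ⟶ Y) [IsClosedImmersion i] (d : ℕ) (hd : 1 ≤ d)
  (hi : RegImm.IsRegularImmersionOfCodim .regular d i) {E : Y.Modules} (hE : PicF.IsInvertible E)

include hd hi hE in
/-- affine opens with `d` generators and a generator of `E` -/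
theorem goodD_basis {V : Y.Opens} (y : Y) (hy : y ∈ V) :
    ∃ (W : Y.affineOpens) (a : Fin d → Γ(Y, W.1)) (e : Γ(E, W.1)),
      y ∈ W.1 ∧ W.1 ≤ V ∧ Acyclic a ∧ i.ker.ideal W = Ideal.span (Set.range a) ∧ TMul.IsGen e := by
  obtain ⟨U₀, e, hyU₀, he⟩ := TMul.exists_isGen hE y
  by_cases hys : y ∈ i.ker.support
  · obtain ⟨z, rfl⟩ : y ∈ Set.range i := by
      have h := (Scheme.Hom.support_ker i).le hys
      rwa [i.isClosedEmbedding.isClosed_range.closure_eq] at h
    obtain ⟨U, hz, -, rs, hlen, hrs, hker⟩ := hi.2 z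
    obtain rfl : rs.length = d := hlen
    have ha : Acyclic rs.get :=
      KoszulLib.acyclic_of_isWeaklyRegular' (by rw [List.ofFn_get]; exact hrs.toIsWeaklyRegular)
    have hI : i.ker.ideal U = Ideal.span (Set.range rs.get) := by
      refine (Scheme.Hom.ker_apply i U).trans (hker.trans ?_)
      rw [Set.range_list_get]
    obtain ⟨g, hg, hxg⟩ := U.2.exists_basicOpen_le (⟨_, hy, hyU₀⟩ : (V ⊓ U₀ : Y.Opens)) hz
    letI : Algebra Γ(Y, U.1) Γ(Y, Y.basicOpen g) := (Y.presheaf.map (homOfLE (Y.basicOpen_le g)).op).hom.toAlgebra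
    haveI : IsLocalization.Away g Γ(Y, Y.basicOpen g) := by
      exact U.2.isLocalization_of_eq_basicOpen g (homOfLE (Y.basicOpen_le g)) rfl
    refine ⟨⟨Y.basicOpen g, U.2.basicOpen g⟩, algebraMap Γ(Y, U.1) Γ(Y, Y.basicOpen g) ∘ rs.get, res E (hg.trans inf_le_right) e, hxg,
      hg.trans inf_le_left, KoszulLib.acyclic_localization _ (Submonoid.powers g) ha, ?_, he.res _⟩
    have e' := i.ker.map_ideal' (U := Y.affineBasicOpen g) (V := U) (homOfLE (Y.basicOpen_le g)).op
    rw [Set.range_comp, ← Ideal.map_span, ← hI]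
    exact e'.symm
  · obtain ⟨W, hW, hyW, hle⟩ := exists_isAffineOpen_mem_and_subset
      (show y ∈ (V ⊓ U₀) ⊓ i.ker.support.compl from ⟨⟨hy, hyU₀⟩, hys⟩)
    have htop : i.ker.ideal ⟨W, hW⟩ = ⊤ := BlowBC.ideal_eq_top_of_notMem _ _ fun z hz => (hle hz).2
    haveI : Nonempty (Fin d) := ⟨⟨0, hd⟩⟩
    exact ⟨⟨W, hW⟩, fun _ => 1, res E (fun z hz => (hle hz).1.2) e, hyW, fun z hz => (hle hz).1.1,
      KoszulLib.acyclic_of_span_eq_top (by simp), htop.trans (by simp), he.res _⟩

variable (hb : BlowUp.IsBlowUp σ i.ker) {F : X.Modules} (hF : PicF.IsInvertible F) {b : ℕ}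
  (ε : CohB1.tensorMod F (EP σ i.ker b) ≅ (Scheme.Modules.pullback σ).obj E) (hbd : b + 1 ≤ d)

/-- the sequence of a power of the exceptional divisor tensored with `F` -/
abbrev powSeq (J : Y.IdealSheafData) (b : ℕ) (F : X.Modules) : ShortComplex X.Modules :=
  ShortComplex.mk (CohFinite.tmap (ClSub.idealModι (BlowUp.exceptional σ J ^ b)) F)
    (CohFinite.tmap (ClSub.toSubscheme (BlowUp.exceptional σ J ^ b)) F)
    (by rw [← CohFinite.tmap_comp, show ClSub.idealModι (BlowUp.exceptional σ J ^ b) ≫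
      ClSub.toSubscheme (BlowUp.exceptional σ J ^ b) = 0 from kernel.condition _, CohFinite.tmap_zero])

include hF in
theorem powSeq_shortExact (J : Y.IdealSheafData) : (powSeq σ J b F).ShortExact := by
  have h := CohFinite.shortExact_tmap hF (CurveRR.ideal_shortExact (BlowUp.exceptional σ J ^ b))
  exact h

/-- the first term is a pullback -/
abbrev e₁ : (powSeq σ i.ker b F).X₁ ≅ (Scheme.Modules.pullback σ).obj E := TMul.commIso _ _ ≪≫ ε

/-- the middle term is `F` -/
abbrev e₂ : (powSeq σ i.ker b F).X₂ ≅ F := TMul.leftUnitIso F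

include hd hi hE hb hF ε hbd in
theorem isZero_push_powQ : IsZero ((Scheme.Modules.pushforward σ).obj (powSeq σ i.ker b F).X₃) := by
  refine GrT.isZero_modules_of_subsingleton fun O z => ?_
  refine Groth.Agent.QC.section_eq_of_locally fun y hy => ?_
  obtain ⟨W, a, e, hyW, hWO, ha, hI, he⟩ := goodD_basis i d hd hi hE (V := O) y hy
  refine ⟨W.1, hWO, hyW, ?_⟩
  obtain ⟨C⟩ := BlowCech.exists_charts i.ker hb W a hI
  haveI : ((Scheme.Modules.pullback σ).obj E).IsQuasicoherent :=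
    QC.isQCoh_pullback σ (LocFree.isQCoh_of_isFinLocFree (ResDesc.isFinLocFree_of_isInvertible hE))
  have hu : Subsingleton (CohSite.HU (Coh.toAb (powSeq σ i.ker b F).X₁) 1 (σ ⁻¹ᵁ W.1)) :=
    PtBlow.subsingleton_hu_of_iso ((SheafOfModules.toSheaf X.ringCatSheaf).mapIso (e₁ σ i ε)).symm 1 _
      (BlowCech.subsingleton_hu_frame C _ _
        (((GrassQ.isFrame_one_iff fun _ : Fin 1 => e).2 he).pullback σ) ha (by omega) 0)
  have hseq := powSeq_shortExact σ hF (b := b) i.ker
  obtain ⟨w, hw⟩ := BlowCech.surjective_app_of_hu hseq (σ ⁻¹ᵁ W.1) hu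
    (res ((Scheme.Modules.pushforward σ).obj (powSeq σ i.ker b F).X₃) hWO z)
  rw [map_zero, ← hw]
  obtain ⟨v, hv⟩ := surjective_invPow C hI (isGen_pullback σ he) ε ha (by omega) hbd ((e₂ σ i (b := b)).hom.app (σ ⁻¹ᵁ W.1) w)
  have hw' : w = (powSeq σ i.ker b F).f.app (σ ⁻¹ᵁ W.1) ((e₁ σ i ε).inv.app (σ ⁻¹ᵁ W.1) v) := by
    refine (ConcreteCategory.bijective_of_isIso ((e₂ σ i (b := b)).hom.app (σ ⁻¹ᵁ W.1))).1 (hv.symm.trans ?_)
    rfl
  rw [hw']
  exact congrArg (fun ψ : (powSeq σ i.ker b F).X₁ ⟶ (powSeq σ i.ker b F).X₃ =>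
    ψ.app (σ ⁻¹ᵁ W.1) ((e₁ σ i ε).inv.app (σ ⁻¹ᵁ W.1) v)) (powSeq σ i.ker b F).zero

include hd hi hE hb hF ε hbd in
/-- if `F ⊗ E^b = π^*E₀` with `b < d`, vanishing for `E₀` gives vanishing for `F` -/
theorem subsingleton_hh_invPow {j : ℕ} (h : Subsingleton (Coh.HH Y E j)) : Subsingleton (Coh.HH X F j) := by
  have hJ : LocData i.ker := BlowCech.locData_of_codim i d hd hi
  obtain ⟨_, _⟩ := BlowCech.qc_qs i.ker hJ hb
  have hFq : Coh.IsQCoh F := TMul.isQCoh_of_isInvertible hF
  haveI : F.IsQuasicoherent := hFq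
  have hseq := powSeq_shortExact σ hF (b := b) i.ker
  choose W a e hyW hWV ha hI he using fun y : Y => goodD_basis i d hd hi hE (V := ⊤) y trivial
  have hacyc : DirectAcyclic (Opens.grothendieckTopology Y) (Opens.map σ.base) (Coh.toAb F) :=
    CohFinite.directAcyclic_of_hu_vanish σ F hFq (fun y => (W y).1) (fun y => (W y).2) (fun y => ⟨y, hyW y⟩)
      fun y q => by
        obtain ⟨C⟩ := BlowCech.exists_charts i.ker hb (W y) (a y) (hI y)
        exact subsingleton_hu_invPow C (hI y) (isGen_pullback σ (he y)) ε (ha y) (by omega) hbd q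
  have hQ : DirectAcyclic (Opens.grothendieckTopology Y) (Opens.map σ.base) (Coh.toAb (powSeq σ i.ker b F).X₃) :=
    fun q => BlowCech.locKilled_X₃ (Opens.map σ.base) (CohQC.seq_shortExact hseq)
      (locKilled_of_isZero _ ((isZero_rpush_of_locKilled (K := _) (u := Opens.map σ.base) (hacyc q)).of_iso
        ((Coh.RpushAb σ (q + 1)).mapIso ((CohQC.toAbF X).mapIso (e₂ σ i (b := b))))))
      (locKilled_of_isZero _ ((BlowCech.isZero_rpush_pullback hJ hb (ResDesc.isFinLocFree_of_isInvertible hE)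
        (q + 1 + 1) (by omega)).of_iso ((Coh.RpushAb σ (q + 1 + 1)).mapIso ((CohQC.toAbF X).mapIso (e₁ σ i ε)))))
  have hzero := isZero_push_powQ σ i d hd hi hE hb hF ε hbd
  obtain ⟨α, -⟩ := CohFinite.h_push_natural σ.base j
  have hQj : Subsingleton (Coh.HH X (powSeq σ i.ker b F).X₃ j) :=
    @Equiv.subsingleton _ _ (α (Coh.toAb _) hQ).toEquiv (PnHodge.subsingleton_hh_of_isZero hzero j)
  have h₁ : Subsingleton (Coh.HH X (powSeq σ i.ker b F).X₁ j) := by
    haveI := BlowCech.isIso_unit_locFree hJ hb (ResDesc.isFinLocFree_of_isInvertible hE)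
    let η := (Scheme.Modules.pullbackPushforwardAdjunction σ).unit.app E
    refine subsingleton_hh_iso (e₁ σ i ε).symm j ?_
    exact @Equiv.subsingleton _ _ (α (Coh.toAb _) (directAcyclic_pullback σ hb hE hJ)).toEquiv
      (subsingleton_hh_iso (asIso η) j h)
  refine subsingleton_hh_iso (e₂ σ i (b := b)) j (subsingleton_of_forall_eq 0 fun x => ?_)
  obtain ⟨y, rfl⟩ := (CohFinite.map_g_eq_zero_iff (CohQC.seq_shortExact hseq) j x).1 (hQj.elim _ _)
  rw [show y = 0 from h₁.elim _ _, map_zero]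

end Groth.Agent.BlowPn
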