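import Groth.Agent.BlowPn.GenTm
import Groth.Agent.BlowPn.Linear
import Groth.Agent.BlowPn.Neg
import Groth.Agent.AmpleEmb.Criterion
import Groth.Agent.LeffAmple.Sections
import Groth.Agent.W7Proj.NegAffine
import Mathlib

/-!
# Intermediate cohomology on the blow-up of projective space in at most one point
-/

set_option autoImplicit false
set_option backward.isDefEq.respectTransparency false
set_option backward.isDefEq.respectTransparency.types false
set_option maxHeartbeats 1000000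
set_option linter.style.haveILetI false

universe u

open CategoryTheory CategoryTheory.Limits AlgebraicGeometry TopologicalSpace

noncomputable section

namespace Groth.Agent.BlowPn

variable {k : Type u} [Field k] [IsAlgClosed k] {n s : ℕ} (P : Fin s → ↥(CohB1.ProjSpace n k))
  (hP : Function.Injective P) (hPc : ∀ i, IsClosed ({P i} : Set ↥(CohB1.ProjSpace n k))) (hZ : IsClosed (Set.range P))
  {X : Scheme.{u}} (π : X ⟶ CohB1.ProjSpace n k) (hπ : BlowUp.IsBlowUp π (JZ P hZ)) (hs : s ≤ 1) (hn : 2 ≤ n)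

/-- `π^*O(c)` -/
abbrev pO (c : ℤ) : X.Modules := (Scheme.Modules.pullback π).obj (Twist.twistProjSpace n k c)

omit [IsAlgClosed k] in
include hπ in
theorem invertible_exc : PicF.IsInvertible (ClSub.idealMod (BlowUp.exceptional π (JZ P hZ))) :=
  (Groth.Agent.S8914.result _).2 hπ.1

include hP hPc hπ hn hs in
/-- the base case: exponents below `n` -/
theorem subsingleton_neg_small {L : X.Modules}
    (hL : ClSub.IsInverseOf L (ClSub.idealMod (BlowUp.exceptional π (JZ P hZ)))) (hLi : PicF.IsInvertible L)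
    (hs0 : 0 < s) (a : ℤ) (ha : 0 < a) (b : ℕ) (hb : b < n) (i : ℕ) (hi : i < n) :
    Subsingleton (Coh.HH X (CohB1.tensorMod (pO π (-a)) (CohB1.tensorPow L b)) i) := by
  haveI := CohFinite.isNoetherian_projSpace n k
  have hv : Subsingleton (Coh.HH (CohB1.ProjSpace n k) (Twist.twistProjSpace n k (-a)) i) :=
    ProjCech.twist_vanish (R := k) n (-a) i (fun h => by omega) (fun h => by omega)
  have hinv := isInvertible_pullback π (CohFinite.isInvertible_twist n k (-a))
  obtain ⟨hpow, ⟨e⟩⟩ := nonempty_pow hπ.1 b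
  obtain ⟨u⟩ := LeffAmple.exists_inverse_pow hL b
  have ε : CohB1.tensorMod (CohB1.tensorMod (pO π (-a)) (CohB1.tensorPow L b)) (EP π (JZ P hZ) b) ≅ pO π (-a) :=
    TMul.assocIso _ _ _ ≪≫ PicGrp.tensorModIso (Iso.refl _) (PicGrp.tensorModIso (Iso.refl _) e.symm ≪≫ u) ≪≫
      SecTwist.unitorR _
  let p := P ⟨0, hs0⟩
  obtain ⟨σ, hσ, hσc, hker, -⟩ := BlowP2.exists_point p (hPc _)
  haveI := hσc
  haveI := ExtFund.smoothOfRelativeDimension_projSpace (k := k) n
  have hreg := Groth.Agent.SectRank.isRegularImmersionOfCodim_of_section n (CohB1.ProjSpace.toSpec n k) σ hσ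
  have hJ : JZ P hZ = σ.ker := by
    rw [hker]
    refine congrArg Scheme.IdealSheafData.vanishingIdeal (Closeds.ext (Set.ext fun y => ?_))
    exact ⟨fun ⟨t, ht⟩ => ht.symm.trans (congrArg P (Fin.ext (by omega))), fun h => ⟨_, (Set.mem_singleton_iff.1 h).symm⟩⟩
  rw [hJ] at ε hπ
  exact subsingleton_hh_invPow π σ n (by omega) hreg (CohFinite.isInvertible_twist n k (-a)) hπ
    (TMul.isInvertible_tensorMod hinv (TMul.isInvertible_tensorPow hLi b)) ε (by omega) hv

include hP hPc hπ hn in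
/-- the case of no point -/
theorem subsingleton_neg_zero (hs0 : s = 0) {L : X.Modules}
    (hL : ClSub.IsInverseOf L (ClSub.idealMod (BlowUp.exceptional π (JZ P hZ))))
    (a : ℤ) (ha : 0 < a) (b : ℕ) (i : ℕ) (hi : i < n) :
    Subsingleton (Coh.HH X (CohB1.tensorMod (pO π (-a)) (CohB1.tensorPow L b)) i) := by
  subst hs0
  have hv : Subsingleton (Coh.HH (CohB1.ProjSpace n k) (Twist.twistProjSpace n k (-a)) i) :=
    ProjCech.twist_vanish (R := k) n (-a) i (fun h => by omega) (fun h => by omega)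
  obtain ⟨hpow, ⟨e⟩⟩ := nonempty_pow hπ.1 b
  obtain ⟨u⟩ := LeffAmple.exists_inverse_pow hL b
  obtain ⟨z⟩ := RatBlow.nonempty_idealMod_top (X := X)
  have hE : BlowUp.exceptional π (JZ P hZ) ^ b = ⊤ := by
    rw [BlowUp.exceptional, ← comap_pow' π (JZ P hZ) b]
    exact BlowUpLib.comap_eq_top _ π fun x h => by
      rcases Nat.eq_zero_or_pos b with rfl | h0
      · rw [pow_zero] at h
        have h' : π x ∈ ((⊤ : (CohB1.ProjSpace n k).IdealSheafData).support : Set _) := h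
        simp at h'
      · rw [Scheme.IdealSheafData.support_pow _ _ (by omega), ← SetLike.mem_coe,
          Scheme.IdealSheafData.coe_support_vanishingIdeal] at h
        obtain ⟨t, -⟩ := h
        exact t.elim0
  have e₁ : ClSub.idealMod (BlowUp.exceptional π (JZ P hZ) ^ b) ≅ Coh.structureModule X :=
    eqToIso (congrArg ClSub.idealMod hE) ≪≫ z
  have e₂ : CohB1.tensorPow L b ≅ Coh.structureModule X :=
    (SecTwist.unitorR _).symm ≪≫ PicGrp.tensorModIso (Iso.refl _) (e₁.symm ≪≫ e.symm) ≪≫ u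
  have h := subsingleton_hh_mid π (K := (⊤ : (CohB1.ProjSpace n k).IdealSheafData)) hπ
    (CohFinite.isInvertible_twist n k (-a)) (locData_jz P hP hPc hZ (by omega)) hv
  exact subsingleton_hh_iso (TMul.leftUnitIso _ ≪≫ (SecTwist.unitorR _).symm ≪≫
    PicGrp.tensorModIso (Iso.refl _) e₂.symm) i h

omit [IsAlgClosed k] in
/-- multiplying by powers of `π^*O(1) ⊗ E` -/
theorem nonempty_exc_mul {I : X.IdealSheafData} {L : X.Modules} (hL : ClSub.IsInverseOf L (ClSub.idealMod I))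
    (a : ℤ) (b m : ℕ) (hm : m ≤ b) :
    Nonempty (CohB1.tensorMod (CohB1.tensorPow (M π I 1 1) m) (CohB1.tensorMod (pO π (-a)) (CohB1.tensorPow L b)) ≅
      CohB1.tensorMod (pO π (-(a - m))) (CohB1.tensorPow L (b - m))) := by
  obtain ⟨e⟩ := nonempty_M_pow π I 1 1 m
  rw [one_mul, one_mul] at e
  obtain ⟨θ⟩ := nonempty_pull_add π (m : ℤ) (-a) (-(a - m)) (by omega)
  obtain ⟨u⟩ := TMul.nonempty_powAddIso L m (b - m)
  rw [Nat.add_sub_cancel' hm] at u
  obtain ⟨w⟩ := LeffAmple.exists_inverse_pow hL m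
  exact ⟨PicGrp.tensorModIso e (Iso.refl _) ≪≫ TMul.swapIso _ _ _ _ ≪≫ PicGrp.tensorModIso θ
    (PicGrp.tensorModIso (Iso.refl _) u.symm ≪≫ (TMul.assocIso _ _ _).symm ≪≫
      PicGrp.tensorModIso (TMul.commIso _ _ ≪≫ w) (Iso.refl _) ≪≫ TMul.leftUnitIso _)⟩

include hP hPc hπ hn hs in
/-- negative twists have no cohomology below the top degree -/
theorem subsingleton_neg {L : X.Modules}
    (hL : ClSub.IsInverseOf L (ClSub.idealMod (BlowUp.exceptional π (JZ P hZ)))) (hLi : PicF.IsInvertible L) :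
    ∀ (b : ℕ) (a : ℤ), 0 < a → (b < n ∨ (b : ℤ) < a) → ∀ i < n,
      Subsingleton (Coh.HH X (CohB1.tensorMod (pO π (-a)) (CohB1.tensorPow L b)) i) := by
  rcases s.eq_zero_or_pos with hs0 | hs0
  · exact fun b a ha _ i hi => subsingleton_neg_zero P hP hPc hZ π hπ hn hs0 hL a ha b i hi
  intro b
  induction b using Nat.strong_induction_on with
  | _ b ih =>
    intro a ha hba i hi
    rcases Nat.lt_or_ge b n with hb | hb
    · exact subsingleton_neg_small P hP hPc hZ π hπ hs hn hL hLi hs0 a ha b hb i hi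
    have hab : (b : ℤ) < a := hba.resolve_left (by omega)
    have hF : PicF.IsInvertible (CohB1.tensorMod (pO π (-a)) (CohB1.tensorPow L b)) :=
      TMul.isInvertible_tensorMod (isInvertible_pullback π (CohFinite.isInvertible_twist n k (-a)))
        (TMul.isInvertible_tensorPow hLi b)
    let p := P ⟨0, hs0⟩
    have hJ : JZ P hZ = Scheme.IdealSheafData.vanishingIdeal ⟨{p}, hPc _⟩ :=
      congrArg Scheme.IdealSheafData.vanishingIdeal (Closeds.ext (Set.ext fun y =>
        ⟨fun ⟨t, ht⟩ => ht.symm.trans (congrArg P (Fin.ext (by omega))),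
          fun h => ⟨_, (Set.mem_singleton_iff.1 h).symm⟩⟩))
    obtain ⟨q, hq⟩ := exists_epi_exc (by omega) p (hPc _) π
    have eG : Tw π (Scheme.IdealSheafData.vanishingIdeal ⟨{p}, hPc _⟩) (SerrePn.Om k n ((1 : ℕ) : ℤ)) ≅
        M π (BlowUp.exceptional π (JZ P hZ)) 1 1 :=
      PicGrp.tensorModIso (eqToIso (congrArg (fun J => ClSub.idealMod (Scheme.IdealSheafData.comap J π)) hJ.symm))
        (Iso.refl _) ≪≫ TMul.commIso _ _ ≪≫ PicGrp.tensorModIso (Iso.refl _) (TMul.leftUnitIso _).symm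
    obtain ⟨N, hN⟩ : ∃ N, n = N + 1 := ⟨n - 1, by omega⟩
    let q' : FlatMod.freeMod X (N + 1) ⟶ M π (BlowUp.exceptional π (JZ P hZ)) 1 1 :=
      eqToHom (by rw [hN]) ≫ q ≫ eG.hom
    haveI : Epi q' := inferInstance
    refine subsingleton_of_twists (isInvertible_M π _ hπ.1 1 1) q' i hF fun j hji hjN => ?_
    obtain ⟨e⟩ := nonempty_exc_mul π hL a b (j + 1) (by omega)
    refine subsingleton_hh_iso e.symm _ (ih (b - (j + 1)) (by omega) _ (by omega) (Or.inr (by omega)) _ (by omega))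

end Groth.Agent.BlowPn

namespace Groth.Agent.BlowPn

variable {k : Type u} [Field k] [IsAlgClosed k] {n s : ℕ} (P : Fin s → ↥(CohB1.ProjSpace n k))
  (hP : Function.Injective P) (hPc : ∀ i, IsClosed ({P i} : Set ↥(CohB1.ProjSpace n k))) (hZ : IsClosed (Set.range P))
  {X : Scheme.{u}} (π : X ⟶ CohB1.ProjSpace n k) (hπ : BlowUp.IsBlowUp π (JZ P hZ)) (hs : s ≤ 1) (hn : 2 ≤ n)

omit [IsAlgClosed k] in
/-- powers of an inverse of a twist -/
theorem nonempty_inv_pow {I : X.IdealSheafData} (hI : BlowUp.IsEffCartierIdeal I) {L : X.Modules}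
    (hL : ClSub.IsInverseOf L (ClSub.idealMod I)) (c : ℤ) (d : ℕ) {Hm Hi : X.Modules} (e : Hm ≅ M π I c d)
    (hHi : ClSub.IsInverseOf Hi Hm) (t : ℕ) :
    Nonempty (CohB1.tensorPow Hi t ≅ CohB1.tensorMod (pO π (-(c * t))) (CohB1.tensorPow L (d * t))) := by
  obtain ⟨h⟩ := hHi
  obtain ⟨θ⟩ := nonempty_pull_add π c (-c) 0 (add_neg_cancel c)
  obtain ⟨z⟩ := PnHodge.nonempty_twist_zero_iso (n := n) (A := k)
  obtain ⟨u⟩ := LeffAmple.exists_inverse_pow hL d
  obtain ⟨w⟩ := AmpleEmb.nonempty_iso_of_inverse (B := Hm) (A' := Hi)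
    (A := CohB1.tensorMod (pO π (-c)) (CohB1.tensorPow L d))
    (PicGrp.tensorModIso e (Iso.refl _) ≪≫ TMul.swapIso _ _ _ _ ≪≫
      PicGrp.tensorModIso (θ ≪≫ (Scheme.Modules.pullback π).mapIso z ≪≫ PicLoc.pullbackStructureIso π)
        (TMul.commIso _ _ ≪≫ u) ≪≫ TMul.leftUnitIso _) h
  obtain ⟨w'⟩ := TMul.nonempty_powCongr w t
  obtain ⟨p⟩ := TMul.nonempty_powTensorIso (pO π (-c)) (CohB1.tensorPow L d) t
  obtain ⟨p₁⟩ := nonempty_pull_pow π (-c) t
  rw [neg_mul] at p₁
  obtain ⟨p₂⟩ := TMul.nonempty_powMulIso L d t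
  exact ⟨w' ≪≫ p ≪≫ PicGrp.tensorModIso p₁ p₂⟩

include hP hPc hπ hn hs in
/-- one linear step: products of global sections fill the twist -/
theorem genTm_step (c : ℤ) (d : ℕ) (hc : 0 ≤ c) (hd : (d : ℤ) ≤ c) :
    GenTm (pO π 1) (M π (BlowUp.exceptional π (JZ P hZ)) c d) := by
  obtain ⟨q, hq⟩ := exists_epi_one (k := k) π
  refine genTm_of_regular (G := pO π 1) (isInvertible_pullback π (CohFinite.isInvertible_twist n k 1)) q
    (fun x => M π (BlowUp.exceptional π (JZ P hZ)) x d) (fun x => isInvertible_M π _ hπ.1 x d)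
    (fun x => ?_) c fun j hj => ?_
  · obtain ⟨e⟩ := nonempty_twist_M π (BlowUp.exceptional π (JZ P hZ)) 1 x d
    exact ⟨e ≪≫ eqToIso (by rw [add_comm])⟩
  · rcases Nat.eq_zero_or_pos j with rfl | hj0
    · refine subsingleton_M_one π P hP hPc hZ (by omega) hπ _ d hs hn (Or.inr ?_)
      push_cast; omega
    · exact subsingleton_M_ge_two π P hP hPc hZ (by omega) hπ _ d (by omega) (fun h => by omega)

include hP hPc hπ hn hs in
/-- two linear steps -/
theorem genTm_two (c : ℤ) (d : ℕ) (hc : 0 ≤ c) (hd : (d : ℤ) ≤ c) :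
    GenTm (pO π 2) (M π (BlowUp.exceptional π (JZ P hZ)) c d) := by
  have h1 := genTm_step P hP hPc hZ π hπ hs hn c d hc hd
  obtain ⟨q, hq⟩ := exists_epi_one (k := k) π
  have hG : PicF.IsInvertible (pO π 1) := isInvertible_pullback π (CohFinite.isInvertible_twist n k 1)
  let Φ : ℤ → X.Modules := fun x => CohB1.tensorMod (pO π 1) (M π (BlowUp.exceptional π (JZ P hZ)) (x + c) d)
  have h2 : GenTm (pO π 1) (Φ 0) := by
    refine genTm_of_regular (G := pO π 1) hG q Φ (fun x => TMul.isInvertible_tensorMod hG (isInvertible_M π _ hπ.1 _ d))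
      (fun x => ?_) 0 fun j hj => ?_
    · obtain ⟨e⟩ := nonempty_twist_M π (BlowUp.exceptional π (JZ P hZ)) 1 (x + c) d
      exact ⟨PicGrp.tensorModIso (Iso.refl _) (e ≪≫ eqToIso (by rw [show 1 + (x + c) = x + 1 + c by ring]))⟩
    · obtain ⟨e⟩ := nonempty_twist_M π (BlowUp.exceptional π (JZ P hZ)) 1 (0 - 1 - (j : ℤ) + c) d
      refine subsingleton_hh_iso e.symm _ ?_
      rcases Nat.eq_zero_or_pos j with rfl | hj0
      · exact subsingleton_M_one π P hP hPc hZ (by omega) hπ _ d hs hn (Or.inr (by push_cast; omega))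
      · exact subsingleton_M_ge_two π P hP hPc hZ (by omega) hπ _ d (by omega) (fun h => by omega)
  have h2' : GenTm (pO π 1) (CohB1.tensorMod (pO π 1) (M π (BlowUp.exceptional π (JZ P hZ)) c d)) := by
    simpa only [Φ, zero_add] using h2
  obtain ⟨e⟩ := nonempty_pull_add (k := k) π 1 1 2 (by norm_num)
  exact (h2'.tensor h1).of_iso e

include hP hPc hπ hn in
theorem subsingleton_pullback_zero {i : ℕ} (hi : 1 ≤ i) :
    Subsingleton (Coh.HH X (Coh.structureModule X) i) := by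
  obtain ⟨z⟩ := PnHodge.nonempty_twist_zero_iso (n := n) (A := k)
  refine subsingleton_hh_iso ?_ i (subsingleton_pullback π P hP hPc hZ (by omega) hπ 0 hi (fun _ => by omega))
  exact SecTwist.unitorR _ ≪≫ (Scheme.Modules.pullback π).mapIso z ≪≫ PicLoc.pullbackStructureIso π

include hP hPc hπ hn hs in
/-- kernels of surjections of sums of `π^*O(1)` onto sums of `π^*O(2)`, twisted by `H^t` -/
theorem subsingleton_ker_pos (a b : ℕ) (Q₂ P₂ : X.Modules)
    (hQ₂ : Nonempty (Q₂ ≅ ∐ fun _ : Fin b => pO π 1)) (hP₂ : Nonempty (P₂ ≅ ∐ fun _ : Fin a => pO π 2))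
    (g : Q₂ ⟶ P₂) [Epi g]
    (hg0 : Function.Surjective (Sheaf.H.map ((SheafOfModules.toSheaf X.ringCatSheaf).map g) 0))
    {H : X.Modules} (c : ℤ) (d : ℕ) (e : H ≅ M π (BlowUp.exceptional π (JZ P hZ)) c d) (hc : 0 ≤ c)
    (hd : (d : ℤ) ≤ c) (i : ℕ) (hi : 1 ≤ i) (hin : i + 1 ≤ n) :
    Subsingleton (Coh.HH X (CohB1.tensorMod (kernel g) H) i) := by
  obtain ⟨pP⟩ := hP₂
  obtain ⟨pQ⟩ := hQ₂
  let F := M π (BlowUp.exceptional π (JZ P hZ)) c d
  have hS := CohFinite.shortExact_tmap (isInvertible_M π (BlowUp.exceptional π (JZ P hZ)) hπ.1 c d)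
    (W7Proj.shortExact_kernel g)
  have hQ : ∀ j, 1 ≤ j → j + 1 ≤ n → Subsingleton (Coh.HH X (CohB1.tensorMod Q₂ F) j) := fun j hj hjn => by
    refine subsingleton_hh_iso (PicGrp.tensorModIso pQ.symm (Iso.refl F)) j
      (VBP1P1.subsingleton_tensor_coprod _ _ j fun _ => ?_)
    obtain ⟨q⟩ := nonempty_twist_M π (BlowUp.exceptional π (JZ P hZ)) 1 c d
    refine subsingleton_hh_iso q.symm j ?_
    rcases Nat.lt_or_ge j 2 with h | h
    · obtain rfl : j = 1 := by omega
      exact subsingleton_M_one π P hP hPc hZ (by omega) hπ _ d hs hn (Or.inr (by omega))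
    · exact subsingleton_M_ge_two π P hP hPc hZ (by omega) hπ _ d h (fun h' => by omega)
  refine subsingleton_hh_iso (PicGrp.tensorModIso (Iso.refl _) e.symm) i ?_
  rcases Nat.lt_or_ge i 2 with h | h
  · obtain rfl : i = 1 := by omega
    have hgen : GenTm P₂ F := (genTm_coprod _ _ fun _ => genTm_two P hP hPc hZ π hπ hs hn c d hc hd).of_iso pP.symm
    have hgtop : Function.Surjective (g.app ⊤) := by
      intro z
      have hT : IsTerminal (⊤ : X.Opens) := isTerminalTop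
      obtain ⟨y, hy⟩ := hg0 ((Sheaf.H.equiv₀ (Coh.toAb P₂) hT).symm z)
      refine ⟨Sheaf.H.equiv₀ (Coh.toAb Q₂) hT y, ?_⟩
      have h := Sheaf.H.equiv₀_naturality (f := (SheafOfModules.toSheaf X.ringCatSheaf).map g) (hT := hT) (x := y)
      refine h.trans ?_
      exact (congrArg _ hy).trans (AddEquiv.apply_symm_apply _ z)
    have hsur : Function.Surjective ((CohFinite.tmap g F).app ⊤) := hgen.surjective g hgtop
    have hm := hQ 1 le_rfl (by omega)
    have hS' := CohQC.seq_shortExact hS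
    refine subsingleton_of_forall_eq 0 fun x => ?_
    obtain ⟨y, rfl⟩ := (CohFinite.map_f_eq_zero_iff hS' 0 x).1 (hm.elim _ _)
    rw [CohFinite.δH_eq_zero_iff]
    have hT : IsTerminal (⊤ : X.Opens) := isTerminalTop
    obtain ⟨w, hw⟩ := hsur (Sheaf.H.equiv₀ (Coh.toAb (CohB1.tensorMod P₂ F)) hT y)
    refine ⟨(Sheaf.H.equiv₀ (Coh.toAb (CohB1.tensorMod Q₂ F)) hT).symm w,
      (Sheaf.H.equiv₀ (Coh.toAb (CohB1.tensorMod P₂ F)) hT).injective ?_⟩
    refine Eq.trans ?_ hw
    exact (Sheaf.H.equiv₀_naturality (f := (SheafOfModules.toSheaf X.ringCatSheaf).map (CohFinite.tmap g F)) (hT := hT)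
      (x := (Sheaf.H.equiv₀ (Coh.toAb (CohB1.tensorMod Q₂ F)) hT).symm w)).symm.trans
      (congrArg ((CohFinite.tmap g F).app ⊤) (AddEquiv.apply_symm_apply _ w))
  · obtain ⟨j, rfl⟩ : ∃ j, i = j + 1 := ⟨i - 1, by omega⟩
    refine subsingleton_hh_X₁_succ hS j (hQ (j + 1) (by omega) hin) ?_
    refine subsingleton_hh_iso (PicGrp.tensorModIso pP.symm (Iso.refl F)) j
      (VBP1P1.subsingleton_tensor_coprod _ _ j fun _ => ?_)
    obtain ⟨q⟩ := nonempty_twist_M π (BlowUp.exceptional π (JZ P hZ)) 2 c d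
    refine subsingleton_hh_iso q.symm j ?_
    rcases Nat.lt_or_ge j 2 with h' | h'
    · obtain rfl : j = 1 := by omega
      exact subsingleton_M_one π P hP hPc hZ (by omega) hπ _ d hs hn (Or.inr (by omega))
    · exact subsingleton_M_ge_two π P hP hPc hZ (by omega) hπ _ d h' (fun h' => by omega)

include hP hPc hπ hn hs in
/-- the same, twisted by `H'^t`, `t ≥ 1` -/
theorem subsingleton_ker_neg (a b : ℕ) (Q₂ P₂ : X.Modules)
    (hQ₂ : Nonempty (Q₂ ≅ ∐ fun _ : Fin b => pO π 1)) (hP₂ : Nonempty (P₂ ≅ ∐ fun _ : Fin a => pO π 2))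
    (g : Q₂ ⟶ P₂) [Epi g] {L : X.Modules}
    (hL : ClSub.IsInverseOf L (ClSub.idealMod (BlowUp.exceptional π (JZ P hZ)))) (hLi : PicF.IsInvertible L)
    {H : X.Modules} (A : ℤ) (B : ℕ) (e : H ≅ CohB1.tensorMod (pO π (-A)) (CohB1.tensorPow L B))
    (hA : 2 < A) (hAB : B < n ∨ (B : ℤ) + 2 < A) (i : ℕ) (hi : 1 ≤ i) (hin : i + 1 ≤ n) :
    Subsingleton (Coh.HH X (CohB1.tensorMod (kernel g) H) i) := by
  obtain ⟨pP⟩ := hP₂
  obtain ⟨pQ⟩ := hQ₂
  let F := CohB1.tensorMod (pO π (-A)) (CohB1.tensorPow L B)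
  have hFi : PicF.IsInvertible F := TMul.isInvertible_tensorMod
    (isInvertible_pullback π (CohFinite.isInvertible_twist n k (-A))) (TMul.isInvertible_tensorPow hLi B)
  have hS := CohFinite.shortExact_tmap hFi (W7Proj.shortExact_kernel g)
  have key : ∀ (r : ℤ), 0 < A - r → (B < n ∨ (B : ℤ) < A - r) → ∀ j < n,
      Subsingleton (Coh.HH X (CohB1.tensorMod (pO π r) F) j) := fun r hr hB j hj => by
    obtain ⟨θ⟩ := nonempty_pull_add π r (-A) (-(A - r)) (by ring)
    exact subsingleton_hh_iso ((TMul.assocIso _ _ _).symm ≪≫ PicGrp.tensorModIso θ (Iso.refl _)).symm j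
      (subsingleton_neg P hP hPc hZ π hπ hs hn hL hLi B (A - r) hr hB j hj)
  refine subsingleton_hh_iso (PicGrp.tensorModIso (Iso.refl _) e.symm) i ?_
  obtain ⟨j, rfl⟩ : ∃ j, i = j + 1 := ⟨i - 1, by omega⟩
  refine subsingleton_hh_X₁_succ hS j ?_ ?_
  · exact subsingleton_hh_iso (PicGrp.tensorModIso pQ.symm (Iso.refl F)) (j + 1)
      (VBP1P1.subsingleton_tensor_coprod _ _ (j + 1) fun _ => key 1 (by omega) (by omega) _ (by omega))
  · exact subsingleton_hh_iso (PicGrp.tensorModIso pP.symm (Iso.refl F)) j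
      (VBP1P1.subsingleton_tensor_coprod _ _ j fun _ => key 2 (by omega) (by omega) _ (by omega))

end Groth.Agent.BlowPn
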