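import Groth.Agent.BlowPn.Core
import Groth.Agent.BlowP2.Euler
import Groth.Agent.SerrePn.LinForms
import Groth.Agent.ProjMor.Morph
import Mathlib

/-!
# Affine neighbourhoods of a rational point of projective space
-/

set_option autoImplicit false
set_option backward.isDefEq.respectTransparency false
set_option backward.isDefEq.respectTransparency.types false

universe u

open CategoryTheory AlgebraicGeometry TopologicalSpace
open Groth.Agent.QC (res resO res_smul)

noncomputable section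

namespace Groth.Agent.BlowPn

variable {k : Type u} [Field k] [IsAlgClosed k] {n : ℕ}

local notation "O1" => SerrePn.Om k n ((1 : ℕ) : ℤ)

/-- the hypotheses of `exists_global` on an open -/
def GoodFor (L : (CohB1.ProjSpace n k).Modules) (l₀ : Γ(L, ⊤)) (W : (CohB1.ProjSpace n k).Opens)
    (I : Ideal Γ(CohB1.ProjSpace n k, W)) : Prop :=
  (I ≤ Ideal.span {y : Γ(CohB1.ProjSpace n k, W) | y ∈ I ∧ ∃ l : Γ(L, ⊤),
      res L (le_top : W ≤ ⊤) l = y • res L (le_top : W ≤ ⊤) l₀}) ∧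
    ∀ a : Γ(CohB1.ProjSpace n k, W), ∃ r : Γ(CohB1.ProjSpace n k, ⊤),
      a - resO (CohB1.ProjSpace n k) le_top r ∈ I

/-- dehomogenisation with respect to a coordinate -/
abbrev dehX (i : Fin (n + 1)) : MvPolynomial (Fin (n + 1)) k →+*
    Γ(CohB1.ProjSpace n k, Proj.basicOpen (CohB1.polyGrading n k) (MvPolynomial.X i)) :=
  GrT.deh (CohB1.polyGrading n k) (SerrePn.xForm i).2

theorem res_formSec (i : Fin (n + 1)) (l : SerrePn.Forms k n) :
    res O1 (le_top : Proj.basicOpen (CohB1.polyGrading n k) (MvPolynomial.X i) ≤ ⊤) (SerrePn.formSec l) =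
      dehX i (l : MvPolynomial (Fin (n + 1)) k) •
        res O1 (le_top : Proj.basicOpen (CohB1.polyGrading n k) (MvPolynomial.X i) ≤ ⊤) (SerrePn.formSec (SerrePn.xForm i)) := by
  have h1 : ∀ z : ProjectiveSpectrum (CohB1.polyGrading n k),
      (1 : MvPolynomial (Fin (n + 1)) k) ∉ z.asHomogeneousIdeal := fun z => SerrePn.one_notMem' z
  refine GrT.pt_ext _ _ fun y => ?_
  have hy : MvPolynomial.X (R := k) i ∉ y.1.asHomogeneousIdeal :=
    (ProjectiveSpectrum.mem_basicOpen _ _ y.1).mp y.2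
  rw [show dehX i (l : MvPolynomial (Fin (n + 1)) k) = _ from GrT.deh_of_mem _ (SerrePn.xForm i).2 l.2]
  refine Eq.trans ?_ (congrArg (fun c => GrT.pt _ _ (c • res O1 (le_top : Proj.basicOpen (CohB1.polyGrading n k) (MvPolynomial.X i) ≤ ⊤) (SerrePn.formSec (SerrePn.xForm i))) y)
    (Groth.Agent.QC.resO_self le_rfl _))
  refine Eq.trans ?_ (GrT.pt_away_smul (CohB1.polyGrading n k) (CohB1.polyGrading n k)
    (SerrePn.xForm i).2 (GrT.mem_smul_one _ l.2) le_rfl _ y
    (b := MvPolynomial.X i) (g := 1) (hg := h1 y.1) rfl (by rwa [pow_one, mul_one])).symm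
  show GrT.fr _ y.1 (l : MvPolynomial (Fin (n + 1)) k) 1 (h1 _) = _
  exact GrT.fr_congr _ y.1 _ _ (by simp only [smul_eq_mul, pow_one, SerrePn.xForm]; ring)

/-- functions near a rational point are constant modulo its ideal -/
theorem exists_const (p : ↥(CohB1.ProjSpace n k)) (hp : IsClosed ({p} : Set ↥(CohB1.ProjSpace n k)))
    (U : (CohB1.ProjSpace n k).affineOpens) (hpU : p ∈ U.1) : ∀ a : Γ(CohB1.ProjSpace n k, U.1), ∃ r : k,
      a - resO (CohB1.ProjSpace n k) (le_top : U.1 ≤ ⊤) (Coh.toGlobal (CohB1.ProjSpace.toSpec n k) r) ∈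
        (Scheme.IdealSheafData.vanishingIdeal ⟨{p}, hp⟩).ideal U := by
  obtain ⟨s, hs, hsc, hker, hsp⟩ := BlowP2.exists_point p hp
  haveI := hsc
  let I := (Scheme.IdealSheafData.vanishingIdeal ⟨{p}, hp⟩).ideal U
  have htop : s ⁻¹ᵁ U.1 = ⊤ := top_le_iff.1 fun z _ => by
    show s z ∈ U.1
    rw [hsp]; exact hpU
  let c : k →+* Γ(CohB1.ProjSpace n k, ⊤) := Coh.toGlobal (CohB1.ProjSpace.toSpec n k)
  have hres : ∀ a : Γ(CohB1.ProjSpace n k, U.1), ∃ r : k, a - resO (CohB1.ProjSpace n k) (le_top : U.1 ≤ ⊤) (c r) ∈ I := by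
    intro a
    let v : Γ(Spec (CommRingCat.of k), ⊤) := resO _ htop.ge (s.app U.1 a)
    refine ⟨(Scheme.ΓSpecIso (CommRingCat.of k)).hom v, ?_⟩
    show a - _ ∈ (Scheme.IdealSheafData.vanishingIdeal ⟨{p}, hp⟩).ideal U
    rw [← hker, Scheme.Hom.ker_apply, RingHom.mem_ker, map_sub, sub_eq_zero]
    have hnat : ∀ w, s.app U.1 (resO _ (le_top : U.1 ≤ ⊤) w) = resO _ (le_top : s ⁻¹ᵁ U.1 ≤ ⊤) (s.app ⊤ w) :=
      fun w => ConcreteCategory.congr_hom (s.naturality (homOfLE (le_top : U.1 ≤ ⊤)).op) w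
    have hid : ∀ w, s.app ⊤ ((CohB1.ProjSpace.toSpec n k).app ⊤ w) = w := fun w => by
      have h := congrArg (fun φ : Spec (CommRingCat.of k) ⟶ Spec (CommRingCat.of k) => φ.appTop.hom w) hs
      simp only [Scheme.Hom.comp_appTop, Scheme.Hom.id_appTop] at h
      exact h
    refine Eq.trans ?_ (hnat _).symm
    have hcv : c ((Scheme.ΓSpecIso (CommRingCat.of k)).hom v) = (CohB1.ProjSpace.toSpec n k).app ⊤ v := by
      show (CohB1.ProjSpace.toSpec n k).appTop ((Scheme.ΓSpecIso (CommRingCat.of k)).inv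
        ((Scheme.ΓSpecIso (CommRingCat.of k)).hom v)) = _
      rw [Iso.hom_inv_id_apply]
      rfl
    rw [hcv, hid]
    exact ((Groth.Agent.QC.resO_resO _ _ _).trans (Groth.Agent.QC.resO_self _ _)).symm
  exact hres

theorem exists_chart (p : ↥(CohB1.ProjSpace n k)) (hp : IsClosed ({p} : Set ↥(CohB1.ProjSpace n k))) :
    ∃ (U : (CohB1.ProjSpace n k).affineOpens) (l₀ : Γ(O1, ⊤)), p ∈ U.1 ∧ TMul.IsGen (res O1 (le_top : U.1 ≤ ⊤) l₀) ∧
      GoodFor O1 l₀ U.1 ((Scheme.IdealSheafData.vanishingIdeal ⟨{p}, hp⟩).ideal U) := by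
  obtain ⟨s, hs, hsc, hker, hsp⟩ := BlowP2.exists_point p hp
  haveI := hsc
  obtain ⟨i, hi⟩ := CohFinite.cov_X n k p
  let U : (CohB1.ProjSpace n k).affineOpens :=
    ⟨Proj.basicOpen (CohB1.polyGrading n k) (MvPolynomial.X i.down),
      Proj.isAffineOpen_basicOpen (CohB1.polyGrading n k) _ (SerrePn.xForm i.down).2 Nat.one_pos⟩
  have hpU : p ∈ U.1 := (ProjectiveSpectrum.mem_basicOpen _ _ p).mpr hi
  let I := (Scheme.IdealSheafData.vanishingIdeal ⟨{p}, hp⟩).ideal U
  have htop : s ⁻¹ᵁ U.1 = ⊤ := top_le_iff.1 fun z _ => by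
    show s z ∈ U.1
    rw [hsp]; exact hpU
  let c : k →+* Γ(CohB1.ProjSpace n k, ⊤) := Coh.toGlobal (CohB1.ProjSpace.toSpec n k)
  have hres : ∀ a : Γ(CohB1.ProjSpace n k, U.1), ∃ r : k, a - resO _ (le_top : U.1 ≤ ⊤) (c r) ∈ I :=
    exists_const p hp U hpU
  have hne : (1 : Γ(CohB1.ProjSpace n k, U.1)) ∉ I := fun h => by
    have h' := Scheme.IdealSheafData.mem_support_iff_of_mem (I := Scheme.IdealSheafData.vanishingIdeal ⟨{p}, hp⟩) hpU
    have hsup : p ∈ (Scheme.IdealSheafData.vanishingIdeal ⟨{p}, hp⟩).support := by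
      rw [← SetLike.mem_coe, Scheme.IdealSheafData.coe_support_vanishingIdeal]
      exact rfl
    have h2 := (Scheme.mem_zeroLocus_iff _ _ _).1 (h'.1 hsup) 1 h
    rw [Scheme.basicOpen_of_isUnit _ isUnit_one] at h2
    exact h2 hpU
  let S : Set Γ(CohB1.ProjSpace n k, U.1) :=
    {y | y ∈ I ∧ ∃ l : Γ(O1, ⊤), res O1 (le_top : U.1 ≤ ⊤) l = y • res O1 (le_top : U.1 ≤ ⊤) (SerrePn.formSec (SerrePn.xForm i.down))}
  have hC : ∀ r : k, dehX i.down (MvPolynomial.C r) =
      resO (CohB1.ProjSpace n k) (le_top : U.1 ≤ ⊤) (c r) := fun r =>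
    (ProjMor.res_toGlobal_base (CohB1.polyGrading n k) (SerrePn.xForm i.down).2 r).symm
  have hgen : ∀ P : MvPolynomial (Fin (n + 1)) k, ∃ r : k,
      dehX i.down P - resO (CohB1.ProjSpace n k) (le_top : U.1 ≤ ⊤) (c r) ∈ Ideal.span S := by
    intro P
    induction P using MvPolynomial.induction_on with
    | C r => exact ⟨r, by rw [hC, sub_self]; exact Submodule.zero_mem _⟩
    | add P Q hP hQ =>
      obtain ⟨r, hr⟩ := hP
      obtain ⟨r', hr'⟩ := hQ
      refine ⟨r + r', ?_⟩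
      have h := Submodule.add_mem _ hr hr'
      rw [map_add, map_add, map_add]
      convert h using 1
      abel
    | mul_X P j hP =>
      obtain ⟨r, hr⟩ := hP
      obtain ⟨b, hb⟩ := hres (dehX i.down (MvPolynomial.X j))
      have hy : dehX i.down (MvPolynomial.X j) - resO (CohB1.ProjSpace n k) (le_top : U.1 ≤ ⊤) (c b) ∈
          Ideal.span S := by
        refine Ideal.subset_span ⟨hb, SerrePn.formSec (SerrePn.xForm j - b • SerrePn.xForm i.down), ?_⟩
        rw [res_formSec]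
        refine congrArg (· • res O1 (le_top : U.1 ≤ ⊤) (SerrePn.formSec (SerrePn.xForm i.down))) ?_
        show dehX i.down (MvPolynomial.X j - b • MvPolynomial.X i.down) = _
        rw [map_sub, MvPolynomial.smul_eq_C_mul, map_mul, hC]
        exact congrArg _ ((congrArg (resO (CohB1.ProjSpace n k) (le_top : U.1 ≤ ⊤) (c b) * ·) (GrT.deh_self _ (SerrePn.xForm i.down).2)).trans (mul_one _))
      refine ⟨r * b, ?_⟩
      rw [map_mul, map_mul, map_mul]
      have h := Submodule.add_mem _ (Ideal.mul_mem_right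
        (dehX i.down (MvPolynomial.X j)) _ hr)
        (Ideal.mul_mem_left _ (resO (CohB1.ProjSpace n k) (le_top : U.1 ≤ ⊤) (c r)) hy)
      convert h using 1
      ring
  refine ⟨U, SerrePn.formSec (SerrePn.xForm i.down), hpU, SerrePn.isGen_formSec (SerrePn.xForm i.down), ?_, fun a => ?_⟩
  · intro a ha
    obtain ⟨P, hP⟩ := ProjMor.exists_deh_eq (SerrePn.xForm i.down).2 a
    obtain ⟨r, hr⟩ := hgen P
    replace hr : a - resO (CohB1.ProjSpace n k) (le_top : U.1 ≤ ⊤) (c r) ∈ Ideal.span S := by rw [← hP]; exact hr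
    have hr0 : r = 0 := by
      by_contra h0
      refine hne ?_
      have hmem : resO (CohB1.ProjSpace n k) (le_top : U.1 ≤ ⊤) (c r) ∈ I := by
        have := I.sub_mem ha (Ideal.span_le.2 (fun y hy => hy.1) hr)
        rwa [sub_sub_cancel] at this
      have := I.mul_mem_left (resO (CohB1.ProjSpace n k) (le_top : U.1 ≤ ⊤) (c r⁻¹)) hmem
      rwa [← map_mul, ← map_mul, inv_mul_cancel₀ h0, map_one, map_one] at this
    rw [hr0, map_zero, map_zero, sub_zero] at hr
    exact hr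
  · obtain ⟨r, hr⟩ := hres a
    exact ⟨c r, hr⟩

end Groth.Agent.BlowPn
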