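import Groth.Agent.BlowPn.HomLift
import Groth.Agent.BlowPn.Acm
import Groth.Agent.CurveRR.Point
import Groth.Agent.PicPn.Main

/-!
# Cokernels of matrices of linear forms on the blow-up of points
-/

set_option autoImplicit false
set_option backward.isDefEq.respectTransparency false
set_option backward.isDefEq.respectTransparency.types false
set_option linter.style.haveILetI false
set_option linter.unusedSectionVars false
set_option maxHeartbeats 1000000

universe u

open CategoryTheory CategoryTheory.Limits AlgebraicGeometry TopologicalSpace Opposite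
open Groth.Agent.QC (res resO)
open Groth.Agent.CohFinite (tmap)

noncomputable section

namespace Groth.Agent.BlowPn

variable {k : Type u} [Field k] [IsAlgClosed k] {n s : ℕ} (P : Fin s → ↥(CohB1.ProjSpace n k)) (hP : Function.Injective P)
  (hPc : ∀ i, IsClosed ({P i} : Set ↥(CohB1.ProjSpace n k))) (hZ : IsClosed (Set.range P))
  {X : Scheme.{u}} (π : X ⟶ CohB1.ProjSpace n k) (hπ : BlowUp.IsBlowUp π (JZ P hZ)) (hn : 2 ≤ n)

omit [IsAlgClosed k] in
theorem nonempty_eta (a : ℤ) : Nonempty (CohB1.tensorMod (pO π (-a)) (pO π a) ≅ Coh.structureModule X) := by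
  obtain ⟨θ⟩ := nonempty_pull_add π (-a) a 0 (by ring)
  obtain ⟨z⟩ := PnHodge.nonempty_twist_zero_iso (n := n) (A := k)
  exact ⟨θ ≪≫ (Scheme.Modules.pullback π).mapIso z ≪≫ PicLoc.pullbackStructureIso π⟩

include hP hPc hπ hn in
theorem subsingleton_pO (c : ℤ) {i : ℕ} (hi : i + 1 ≤ n) (h0 : i = 0 → c < 0) :
    Subsingleton (Coh.HH X (pO π c) i) := by
  have h := subsingleton_hh_mid π (K := (⊤ : (CohB1.ProjSpace n k).IdealSheafData)) hπ
    (CohFinite.isInvertible_twist n k c) (locData_jz P hP hPc hZ (by omega))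
    (ProjCech.twist_vanish (R := k) n c i (fun h => by have := h0 h.1; omega) (fun h => by omega))
  exact subsingleton_hh_iso (TMul.leftUnitIso _) i h

include hP hPc hπ hn in
/-- global functions on the blow-up are constants -/
theorem surjective_toGlobal : Function.Surjective (Coh.toGlobal (π ≫ CohB1.ProjSpace.toSpec n k)) := by
  intro a
  haveI : AlgebraicGeometry.IsIntegral (CohB1.ProjSpace n k) := PicPn.isIntegral
  haveI : IsProper (CohB1.ProjSpace.toSpec n k) := ProjMor.isProper_toSpec n k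
  have hJ := locData_jz P hP hPc hZ (by omega : 0 < n)
  let O₀ := Coh.structureModule (CohB1.ProjSpace n k)
  have hO : PicF.IsInvertible O₀ := PicLoc.isInvertible_structureModule _
  haveI := BlowCech.isIso_unit_locFree hJ hπ (ResDesc.isFinLocFree_of_isInvertible hO)
  obtain ⟨V, e₀, he₀⟩ : ∃ V : Unit, ∃ e₀ : Γ(O₀, ⊤), TMul.IsGen e₀ :=
    ⟨(), (1 : Γ(CohB1.ProjSpace n k, ⊤)), TMul.isGen_one ⊤⟩
  let η := (Scheme.Modules.pullbackPushforwardAdjunction π).unit.app O₀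
  let e : Γ((Scheme.Modules.pullback π).obj O₀, π ⁻¹ᵁ ⊤) := η.app ⊤ e₀
  have he : TMul.IsGen (X := X) (U := π ⁻¹ᵁ ⊤) e := isGen_pullback π he₀
  obtain ⟨w, hw⟩ := (ConcreteCategory.bijective_of_isIso (η.app ⊤)).2
    ((show Γ(X, π ⁻¹ᵁ ⊤) from a) • e)
  obtain ⟨b, hb⟩ := (he₀ ⊤ le_rfl).2 w
  simp only [Groth.Agent.QC.res_self] at hb
  obtain ⟨c, hc⟩ := (CurveRR.bijective_toGlobal (CohB1.ProjSpace.toSpec n k)).2 b
  refine ⟨c, ?_⟩
  rw [← hb, TMul.app_smul] at hw
  have hcoef : (π.app ⊤ b : Γ(X, π ⁻¹ᵁ ⊤)) = a := by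
    refine (he (π ⁻¹ᵁ ⊤) le_rfl).1 ?_
    simp only [Groth.Agent.QC.res_self]
    exact hw
  rw [← hcoef, ← hc]
  rfl

include hP hPc hπ hn in
theorem hom_zero {a b : ℕ} {P₁ Q₁ : X.Modules} (eP : P₁ ≅ ∐ fun _ : Fin a => pO π (-2))
    (eQ : Q₁ ≅ ∐ fun _ : Fin b => pO π (-1)) (φ : Q₁ ⟶ P₁) : φ = 0 := by
  obtain ⟨η⟩ := nonempty_eta π (-1)
  rw [neg_neg] at η
  refine hom_coprod_eq_zero η (isInvertible_pullback π (CohFinite.isInvertible_twist n k 1)) eQ
    (subsingleton_hh_iso (PicGrp.tensorModIso eP (Iso.refl _)).symm 0 (LinRes.hh_coprod _ _ 0 ?_)) φ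
  obtain ⟨θ⟩ := nonempty_pull_add π (-2) 1 (-1) (by ring)
  exact subsingleton_hh_iso θ.symm 0 (subsingleton_pO P hP hPc hZ π hπ hn (-1) (by omega) (fun _ => by omega))

include hP hPc hπ hn in
theorem lift_coker {a b : ℕ} {P₁ Q₁ : X.Modules} (eP : P₁ ≅ ∐ fun _ : Fin a => pO π (-2))
    (eQ : Q₁ ≅ ∐ fun _ : Fin b => pO π (-1)) (f : P₁ ⟶ Q₁) [Mono f] (φ : Q₁ ⟶ cokernel f) :
    ∃ β : Q₁ ⟶ Q₁, β ≫ cokernel.π f = φ := by
  obtain ⟨η⟩ := nonempty_eta π (-1)
  rw [neg_neg] at η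
  refine exists_lift_coprod η (isInvertible_pullback π (CohFinite.isInvertible_twist n k 1)) eQ (coker_shortExact f)
    (subsingleton_hh_iso (PicGrp.tensorModIso eP (Iso.refl _)).symm 1 (LinRes.hh_coprod _ _ 1 ?_)) φ
  obtain ⟨θ⟩ := nonempty_pull_add π (-2) 1 (-1) (by ring)
  exact subsingleton_hh_iso θ.symm 1 (subsingleton_pO P hP hPc hZ π hπ hn (-1) (by omega) (fun _ => by omega))

end Groth.Agent.BlowPn
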