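import Groth.Agent.TMul.Power
import Mathlib

/-!
# Sections of a power of an invertible module modulo a power of the ideal of a rational point
-/

set_option autoImplicit false
set_option backward.isDefEq.respectTransparency false
set_option backward.isDefEq.respectTransparency.types false

universe u

open CategoryTheory AlgebraicGeometry TopologicalSpace
open Groth.Agent.QC (res resO res_smul)
open TMul (pw tm)

noncomputable section

namespace Groth.Agent.BlowPn

variable {X : Scheme.{u}} {L : X.Modules} {W : X.Opens} (g : Γ(L, W)) (I : Ideal Γ(X, W))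
  (hI : I ≤ Ideal.span {y : Γ(X, W) | y ∈ I ∧ ∃ l : Γ(L, ⊤), res L le_top l = y • g})
  (hc : ∀ a : Γ(X, W), ∃ r : Γ(X, ⊤), a - resO X le_top r ∈ I) (l₀ : Γ(L, ⊤)) (hl₀ : res L le_top l₀ = g)

include hI hc hl₀ in
/-- every section is congruent to a global one -/
theorem exists_global : ∀ (c d : ℕ), d ≤ c + 1 → ∀ a : Γ(X, W),
    ∃ G : Γ(CohB1.tensorPow L c, ⊤), ∃ r ∈ I ^ d,
      res (CohB1.tensorPow L c) le_top G = (a + r) • pw g c
  | 0, d, hd, a => by
    obtain ⟨r, hr⟩ := hc a
    refine ⟨(r : Γ(X, ⊤)), resO X le_top r - a, ?_, ?_⟩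
    · refine Ideal.pow_le_pow_right hd ?_
      rw [pow_one, ← neg_sub]
      exact I.neg_mem hr
    · show resO X le_top r = HMul.hMul (α := Γ(X, W)) (β := Γ(X, W)) (γ := Γ(X, W)) (a + (resO X le_top r - a)) 1
      rw [mul_one, add_sub_cancel]
  | c + 1, 0, _, a => by
    exact ⟨0, -a, by simp, by rw [add_neg_cancel, zero_smul, map_zero]⟩
  | c + 1, d + 1, hd, a => by
    have key : ∀ y ∈ I, ∃ G : Γ(CohB1.tensorPow L (c + 1), ⊤), ∃ r ∈ I ^ (d + 1),
        res (CohB1.tensorPow L (c + 1)) le_top G = (y + r) • pw g (c + 1) := fun y hy => by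
      suffices h : ∀ b : Γ(X, W), ∃ G : Γ(CohB1.tensorPow L (c + 1), ⊤), ∃ r ∈ I ^ (d + 1),
          res (CohB1.tensorPow L (c + 1)) le_top G = (b * y + r) • pw g (c + 1) by
        simpa only [one_mul] using h 1
      refine Submodule.span_induction (p := fun y _ => ∀ b : Γ(X, W), ∃ G : Γ(CohB1.tensorPow L (c + 1), ⊤),
        ∃ r ∈ I ^ (d + 1), res (CohB1.tensorPow L (c + 1)) le_top G = (b * y + r) • pw g (c + 1))
        ?_ ?_ ?_ ?_ (hI hy)
      · rintro y ⟨hyI, l, hl⟩ b
        obtain ⟨G, r, hr, hG⟩ := exists_global c d (by omega) b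
        refine ⟨tm G l, r * y, ?_, ?_⟩
        · rw [pow_succ]
          exact Ideal.mul_mem_mul hr hyI
        · refine (TMul.res_tm _ G l).trans ?_
          rw [hG, hl, TMul.smul_tm, TMul.tm_smul, smul_smul, add_mul]
          rfl
      · exact fun b => ⟨0, 0, Submodule.zero_mem _, by rw [mul_zero, add_zero, zero_smul, map_zero]⟩
      · intro x y _ _ hx hy b
        obtain ⟨G, r, hr, hG⟩ := hx b
        obtain ⟨G', r', hr', hG'⟩ := hy b
        exact ⟨G + G', r + r', Submodule.add_mem _ hr hr', by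
          rw [map_add, hG, hG', ← add_smul, mul_add, add_add_add_comm]⟩
      · intro s x _ hx b
        obtain ⟨G, r, hr, hG⟩ := hx (b * s)
        exact ⟨G, r, hr, by rw [hG, smul_eq_mul, mul_assoc]⟩
    obtain ⟨ρ, hρ⟩ := hc a
    obtain ⟨G, r, hr, hG⟩ := key _ hρ
    refine ⟨G + ρ • pw l₀ (c + 1), r, hr, ?_⟩
    rw [map_add, hG, res_smul, TMul.res_pw, hl₀, ← add_smul]
    congr 1
    abel

end Groth.Agent.BlowPn
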