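import Groth.Agent.BlowPn.Koszul
import Groth.Agent.CurveRR.GlobGen
import Mathlib

/-!
# Global sections of tensor products spanned by products
-/

set_option autoImplicit false
set_option backward.isDefEq.respectTransparency false
set_option backward.isDefEq.respectTransparency.types false

universe u

open CategoryTheory CategoryTheory.Limits AlgebraicGeometry TopologicalSpace Opposite
open TMul (tm)
open Groth.Agent.CohFinite (tmap tmap_tm)

noncomputable section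

namespace Groth.Agent.BlowPn

variable {X : Scheme.{u}}

/-- the global sections of `M ⊗ F` are sums of products of global sections -/
def GenTm (M F : X.Modules) : Prop :=
  ∀ y : Γ(CohB1.tensorMod M F, ⊤),
    y ∈ AddSubgroup.closure (Set.range fun ab : Γ(M, ⊤) × Γ(F, ⊤) => (tm ab.1 ab.2 : Γ(CohB1.tensorMod M F, ⊤)))

theorem GenTm.of_map {M M' F : X.Modules} (h : GenTm M F) (φ : M ⟶ M')
    (hφ : Function.Surjective ((tmap φ F).app ⊤)) : GenTm M' F := by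
  intro y
  obtain ⟨z, rfl⟩ := hφ y
  refine AddSubgroup.closure_induction (p := fun z _ => (tmap φ F).app ⊤ z ∈ AddSubgroup.closure
    (Set.range fun ab : Γ(M', ⊤) × Γ(F, ⊤) => (tm ab.1 ab.2 : Γ(CohB1.tensorMod M' F, ⊤)))) ?_ ?_ ?_ ?_ (h z)
  · rintro _ ⟨⟨a, b⟩, rfl⟩
    rw [tmap_tm]
    exact AddSubgroup.subset_closure ⟨(φ.app ⊤ a, b), rfl⟩
  · rw [map_zero]; exact AddSubgroup.zero_mem _
  · intro a b _ _ ha hb; rw [map_add]; exact AddSubgroup.add_mem _ ha hb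
  · intro a _ ha; rw [map_neg]; exact AddSubgroup.neg_mem _ ha

theorem surjective_tmap_iso {M M' : X.Modules} (e : M ≅ M') (F : X.Modules) :
    Function.Surjective ((tmap e.hom F).app ⊤) := by
  intro y
  refine ⟨(tmap e.inv F).app ⊤ y, ?_⟩
  have h : tmap e.inv F ≫ tmap e.hom F = 𝟙 _ := by rw [← CohFinite.tmap_comp, Iso.inv_hom_id, CohFinite.tmap_id]
  exact congrArg (fun ψ : CohB1.tensorMod M' F ⟶ CohB1.tensorMod M' F => ψ.app ⊤ y) h

theorem GenTm.of_iso {M M' F : X.Modules} (e : M ≅ M') (h : GenTm M F) : GenTm M' F :=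
  h.of_map e.hom (surjective_tmap_iso e F)

theorem genTm_unit (F : X.Modules) : GenTm (Coh.structureModule X) F := by
  intro y
  let e := TMul.leftUnitIso F
  refine AddSubgroup.subset_closure ⟨((show Γ(X, ⊤) from 1), e.hom.app ⊤ y), ?_⟩
  refine (ConcreteCategory.bijective_of_isIso (e.hom.app ⊤)).1 ?_
  exact (CurveRR.leftUnitIso_tm F (1 : Γ(X, ⊤)) (e.hom.app ⊤ y)).trans (one_smul _ _)

theorem genTm_coprod {r : ℕ} (M : Fin r → X.Modules) (F : X.Modules) (h : ∀ i, GenTm (M i) F) :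
    GenTm (∐ M) F := by
  refine GenTm.of_iso (biproduct.isoCoproduct M) fun y => ?_
  have hy : y = ∑ i, (tmap (biproduct.ι M i) F).app ⊤ ((tmap (biproduct.π M i) F).app ⊤ y) := by
    have h1 : ∑ i, tmap (biproduct.π M i) F ≫ tmap (biproduct.ι M i) F = 𝟙 _ := by
      simp_rw [← CohFinite.tmap_comp, ← CohFinite.tmap_sum, biproduct.total, CohFinite.tmap_id]
    let E : (CohB1.tensorMod (⨁ M) F ⟶ CohB1.tensorMod (⨁ M) F) →+ Γ(CohB1.tensorMod (⨁ M) F, ⊤) :=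
      AddMonoidHom.mk' (fun ψ => ψ.app ⊤ y) (fun _ _ => rfl)
    exact (congrArg E h1.symm).trans (map_sum E _ _)
  rw [hy]
  refine AddSubgroup.sum_mem _ fun i _ => ?_
  refine AddSubgroup.closure_induction (p := fun z _ => (tmap (biproduct.ι M i) F).app ⊤ z ∈ AddSubgroup.closure
    (Set.range fun ab : Γ(⨁ M, ⊤) × Γ(F, ⊤) => (tm ab.1 ab.2 : Γ(CohB1.tensorMod (⨁ M) F, ⊤)))) ?_ ?_ ?_ ?_
    (h i ((tmap (biproduct.π M i) F).app ⊤ y))
  · rintro _ ⟨⟨a, b⟩, rfl⟩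
    rw [tmap_tm]
    exact AddSubgroup.subset_closure ⟨((biproduct.ι M i).app ⊤ a, b), rfl⟩
  · rw [map_zero]; exact AddSubgroup.zero_mem _
  · intro a b _ _ ha hb; rw [map_add]; exact AddSubgroup.add_mem _ ha hb
  · intro a _ ha; rw [map_neg]; exact AddSubgroup.neg_mem _ ha

theorem GenTm.tensor {A B F : X.Modules} (hA : GenTm A (CohB1.tensorMod B F)) (hB : GenTm B F) :
    GenTm (CohB1.tensorMod A B) F := by
  intro y
  let e := TMul.assocIso A B F
  have hy : y = e.inv.app ⊤ (e.hom.app ⊤ y) :=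
    (congrArg (fun ψ : CohB1.tensorMod (CohB1.tensorMod A B) F ⟶ _ => ψ.app ⊤ y) e.hom_inv_id).symm
  rw [hy]
  refine AddSubgroup.closure_induction (p := fun z _ => e.inv.app ⊤ z ∈ AddSubgroup.closure
    (Set.range fun ab : Γ(CohB1.tensorMod A B, ⊤) × Γ(F, ⊤) =>
      (tm ab.1 ab.2 : Γ(CohB1.tensorMod (CohB1.tensorMod A B) F, ⊤)))) ?_ ?_ ?_ ?_ (hA _)
  · rintro _ ⟨⟨a, w⟩, rfl⟩
    refine AddSubgroup.closure_induction (p := fun w _ => e.inv.app ⊤ (tm a w) ∈ AddSubgroup.closure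
      (Set.range fun ab : Γ(CohB1.tensorMod A B, ⊤) × Γ(F, ⊤) =>
        (tm ab.1 ab.2 : Γ(CohB1.tensorMod (CohB1.tensorMod A B) F, ⊤)))) ?_ ?_ ?_ ?_ (hB w)
    · rintro _ ⟨⟨b, c⟩, rfl⟩
      refine AddSubgroup.subset_closure ⟨(tm a b, c), ?_⟩
      refine (ConcreteCategory.bijective_of_isIso (e.hom.app ⊤)).1 ?_
      refine (TMul.assocHom_tm a b c).trans ?_
      exact (congrArg (fun ψ : CohB1.tensorMod A (CohB1.tensorMod B F) ⟶ _ => ψ.app ⊤ (tm a (tm b c))) e.inv_hom_id).symm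
    · have h0 : tm a (0 : Γ(CohB1.tensorMod B F, ⊤)) = 0 :=
        (AddMonoidHom.mk' (fun w => (tm a w : Γ(CohB1.tensorMod A (CohB1.tensorMod B F), ⊤)))
          (fun w w' => TMul.add_tm a w w')).map_zero
      rw [h0, map_zero]; exact AddSubgroup.zero_mem _
    · intro x z _ _ hx hz; rw [TMul.add_tm, map_add]; exact AddSubgroup.add_mem _ hx hz
    · intro x _ hx
      have h0 : tm a (-x) = - tm a x :=
        (AddMonoidHom.mk' (fun w => (tm a w : Γ(CohB1.tensorMod A (CohB1.tensorMod B F), ⊤)))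
          (fun w w' => TMul.add_tm a w w')).map_neg x
      rw [h0, map_neg]; exact AddSubgroup.neg_mem _ hx
  · rw [map_zero]; exact AddSubgroup.zero_mem _
  · intro a b _ _ ha hb; rw [map_add]; exact AddSubgroup.add_mem _ ha hb
  · intro a _ ha; rw [map_neg]; exact AddSubgroup.neg_mem _ ha

theorem GenTm.surjective {Q P F : X.Modules} (h : GenTm P F) (g : Q ⟶ P) (hg : Function.Surjective (g.app ⊤)) :
    Function.Surjective ((tmap g F).app ⊤) := by
  intro y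
  refine AddSubgroup.closure_induction (p := fun z _ => ∃ x, (tmap g F).app ⊤ x = z) ?_ ?_ ?_ ?_ (h y)
  · rintro _ ⟨⟨a, b⟩, rfl⟩
    obtain ⟨a', rfl⟩ := hg a
    exact ⟨tm a' b, tmap_tm _ _ _ _⟩
  · exact ⟨0, map_zero _⟩
  · rintro a b _ _ ⟨x, rfl⟩ ⟨x', rfl⟩; exact ⟨x + x', map_add _ _ _⟩
  · rintro a _ ⟨x, rfl⟩; exact ⟨-x, map_neg _ _⟩

variable {N : ℕ} {G : X.Modules} (hG : PicF.IsInvertible G) (q : FlatMod.freeMod X (N + 1) ⟶ G) [Epi q]

include hG q in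
/-- regularity gives generation -/
theorem genTm_of_regular (Φ : ℤ → X.Modules) (hΦ : ∀ c, PicF.IsInvertible (Φ c))
    (hmul : ∀ c, Nonempty (CohB1.tensorMod G (Φ c) ≅ Φ (c + 1))) (c : ℤ)
    (h : ∀ j : ℕ, j < N → Subsingleton (Coh.HH X (Φ (c - 1 - j)) (1 + j))) : GenTm G (Φ c) := by
  have h1 := subsingleton_wg_down hG q Φ hΦ hmul N 1 1 c (by omega) h
  obtain ⟨w⟩ := nonempty_wg_zero hG q
  obtain ⟨S', hS', ⟨a'⟩, ⟨b'⟩, ⟨c'⟩⟩ := PnHodge.exists_koszul_kernel (Iso.refl (FlatMod.freeMod X (N + 1)))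
    (CurveRR.isFinLocFreeOfRank_one hG) q 0
  let φ : FlatMod.freeMod X ((N + 1).choose (0 + 1)) ⟶ G :=
    b'.inv ≫ S'.g ≫ (c' ≪≫ PicGrp.tensorModIso w (Iso.refl _) ≪≫ TMul.leftUnitIso _).hom
  refine GenTm.of_map (genTm_coprod _ _ fun _ => genTm_unit (Φ c)) φ ?_
  have hS'' := CohFinite.shortExact_tmap (hΦ c) hS'
  have hsurj' := PnReg.surjective_app_top hS'' (subsingleton_hh_iso
    (PicGrp.tensorModIso a' (Iso.refl _)).symm 1 h1)
  intro y
  obtain ⟨z, hz⟩ := surjective_tmap_iso (c' ≪≫ PicGrp.tensorModIso w (Iso.refl _) ≪≫ TMul.leftUnitIso _) (Φ c) y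
  obtain ⟨x, hx⟩ := hsurj' z
  obtain ⟨x', hx'⟩ := surjective_tmap_iso b'.symm (Φ c) x
  refine ⟨x', ?_⟩
  show (tmap (b'.inv ≫ S'.g ≫ _) (Φ c)).app ⊤ x' = y
  rw [CohFinite.tmap_comp, CohFinite.tmap_comp, ← hz, ← hx]
  exact congrArg (fun w => (tmap _ (Φ c)).app ⊤ ((tmap S'.g (Φ c)).app ⊤ w)) hx'

end Groth.Agent.BlowPn
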