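import Groth.Agent.RegTilde.LinRes
import Groth.Agent.PicBdd.Resolve
import Mathlib.LinearAlgebra.Eigenspace.Minpoly
import Mathlib.LinearAlgebra.Matrix.Charpoly.Eigs

/-!
# Morphisms out of sums of an invertible module, cokernels and their endomorphisms
-/

set_option autoImplicit false
set_option backward.isDefEq.respectTransparency false
set_option backward.isDefEq.respectTransparency.types false
set_option linter.style.haveILetI false
set_option linter.unusedSectionVars false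
set_option maxHeartbeats 1000000

universe u

open CategoryTheory CategoryTheory.Limits AlgebraicGeometry TopologicalSpace Opposite
open Groth.Agent.QC (res resO res_res res_smul app_res)
open Groth.Agent.CohFinite (tmap)
open Groth.Agent.LinRes (secHom gen₀)

noncomputable section

namespace Groth.Agent.BlowPn

attribute [local instance] Abelian.hasFiniteBiproducts

variable {X : Scheme.{u}}

section Inv

variable {L L' : X.Modules} (η : CohB1.tensorMod L' L ≅ Coh.structureModule X) (hL' : PicF.IsInvertible L')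

include hL' in
/-- a morphism out of `L` is determined by a section -/
theorem hom_eq_of_gen {N : X.Modules} {φ ψ : L ⟶ N}
    (h : (tmap φ L').app ⊤ (gen₀ η) = (tmap ψ L').app ⊤ (gen₀ η)) : φ = ψ := by
  rw [← sub_eq_zero]
  refine LinRes.eq_zero_of_tmap hL' _ (LinRes.eq_zero_of_gen (TMul.commIso L L' ≪≫ η) _ ?_)
  have hadd : tmap (φ - ψ) L' + tmap ψ L' = tmap φ L' := by
    rw [← CohFinite.tmap_add, sub_add_cancel]
  have h1 := congrArg (fun χ : CohB1.tensorMod L L' ⟶ CohB1.tensorMod N L' => χ.app ⊤ (gen₀ η)) hadd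
  dsimp only at h1
  have h2 : (tmap (φ - ψ) L').app ⊤ (gen₀ η) + (tmap ψ L').app ⊤ (gen₀ η) = (tmap φ L').app ⊤ (gen₀ η) := h1
  rw [h] at h2
  exact add_eq_right.1 h2

theorem sections_eq_zero {M : X.Modules} (h : Subsingleton (Coh.HH X M 0)) (z : Γ(M, ⊤)) : z = 0 := by
  have hT : IsTerminal (⊤ : X.Opens) := isTerminalTop
  let e := Sheaf.H.equiv₀ (Coh.toAb M) hT
  obtain ⟨y, hy⟩ := e.surjective z
  rw [← hy, show y = 0 from h.elim _ _]
  exact map_zero e

include η hL' in
theorem hom_eq_zero_of_vanish {N : X.Modules} (h : Subsingleton (Coh.HH X (CohB1.tensorMod N L') 0)) (φ : L ⟶ N) :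
    φ = 0 :=
  hom_eq_of_gen η hL' ((sections_eq_zero h _).trans (sections_eq_zero h _).symm)

include η hL' in
/-- morphisms out of `L` lift along surjections with acyclic kernel -/
theorem exists_lift {S : ShortComplex X.Modules} (hS : S.ShortExact)
    (h : Subsingleton (Coh.HH X (CohB1.tensorMod S.X₁ L') 1)) (φ : L ⟶ S.X₃) : ∃ ψ : L ⟶ S.X₂, ψ ≫ S.g = φ := by
  have hT : IsTerminal (⊤ : X.Opens) := isTerminalTop
  have hS' := CohQC.seq_shortExact (CohFinite.shortExact_tmap hL' hS)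
  let z : Γ(CohB1.tensorMod S.X₃ L', ⊤) := (tmap φ L').app ⊤ (gen₀ η)
  obtain ⟨y, hy⟩ := (CohFinite.δH_eq_zero_iff hS' 0 ((Sheaf.H.equiv₀ (Coh.toAb _) hT).symm z)).1 (h.elim _ _)
  let w : Γ(CohB1.tensorMod S.X₂ L', ⊤) := Sheaf.H.equiv₀ (Coh.toAb _) hT y
  have hw : (tmap S.g L').app ⊤ w = z := by
    have h1 := Sheaf.H.equiv₀_naturality (f := (SheafOfModules.toSheaf X.ringCatSheaf).map (tmap S.g L')) hT y
    refine h1.trans ?_
    exact (congrArg (Sheaf.H.equiv₀ (Coh.toAb (CohB1.tensorMod S.X₃ L')) hT) hy).trans (AddEquiv.apply_symm_apply _ z)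
  refine ⟨secHom η w, hom_eq_of_gen η hL' ?_⟩
  rw [CohFinite.tmap_comp]
  show (tmap S.g L').app ⊤ ((tmap (secHom η w) L').app ⊤ (gen₀ η)) = _
  rw [LinRes.tmap_secHom_gen η hL' w]
  exact hw

include η hL' in
theorem hom_coprod_eq_zero {b : ℕ} {Q N : X.Modules} (eQ : Q ≅ ∐ fun _ : Fin b => L)
    (h : Subsingleton (Coh.HH X (CohB1.tensorMod N L') 0)) (φ : Q ⟶ N) : φ = 0 := by
  rw [← cancel_epi eQ.inv, comp_zero]
  refine Sigma.hom_ext _ _ fun j => ?_
  rw [comp_zero]
  exact hom_eq_zero_of_vanish η hL' h _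

include η hL' in
theorem exists_lift_coprod {b : ℕ} {Q : X.Modules} (eQ : Q ≅ ∐ fun _ : Fin b => L) {S : ShortComplex X.Modules}
    (hS : S.ShortExact) (h : Subsingleton (Coh.HH X (CohB1.tensorMod S.X₁ L') 1)) (φ : Q ⟶ S.X₃) :
    ∃ ψ : Q ⟶ S.X₂, ψ ≫ S.g = φ := by
  choose ψ hψ using fun j => exists_lift η hL' hS h (Sigma.ι (fun _ : Fin b => L) j ≫ eQ.inv ≫ φ)
  refine ⟨eQ.hom ≫ Sigma.desc ψ, ?_⟩
  rw [← cancel_epi eQ.inv, ← Category.assoc, ← Category.assoc, eQ.inv_hom_id, Category.id_comp]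
  refine Sigma.hom_ext _ _ fun j => ?_
  rw [← Category.assoc, Sigma.ι_desc]
  exact hψ j

end Inv

section Scalars

open Groth.Agent.PicBdd (scal scal_app scal_comp)

theorem scal_add (a b : Γ(X, ⊤)) (M : X.Modules) : scal (a + b) M = scal a M + scal b M := by
  refine Scheme.Modules.hom_ext _ _ fun U => ?_
  ext m
  show _ = (scal a M).app U m + (scal b M).app U m
  rw [scal_app, scal_app, scal_app, map_add, add_smul]

theorem scal_zero (M : X.Modules) : scal (0 : Γ(X, ⊤)) M = 0 := by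
  have h := scal_add (0 : Γ(X, ⊤)) 0 M
  rw [add_zero] at h
  exact add_eq_left.1 h.symm

theorem scal_sum {ι : Type*} (s : Finset ι) (a : ι → Γ(X, ⊤)) (M : X.Modules) :
    scal (∑ i ∈ s, a i) M = ∑ i ∈ s, scal (a i) M :=
  map_sum (AddMonoidHom.mk' (fun a => scal a M) fun a b => scal_add a b M) a s

theorem scal_one (M : X.Modules) : scal (1 : Γ(X, ⊤)) M = 𝟙 M := by
  refine Scheme.Modules.hom_ext _ _ fun U => ?_
  ext m
  show (scal (1 : Γ(X, ⊤)) M).app U m = m
  rw [scal_app, map_one, one_smul]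

theorem scal_mul (a b : Γ(X, ⊤)) (M : X.Modules) : scal (a * b) M = scal a M ≫ scal b M := by
  refine Scheme.Modules.hom_ext _ _ fun U => ?_
  ext m
  show (scal (a * b) M).app U m = (scal b M).app U ((scal a M).app U m)
  rw [scal_app, scal_app, scal_app, map_mul, smul_smul, mul_comm]

theorem toSheaf_scal (a : Γ(X, ⊤)) (M : X.Modules) :
    (SheafOfModules.toSheaf X.ringCatSheaf).map (scal a M) = Coh.smulAb M a := by
  ext U m
  rfl

theorem eq_scal {M : X.Modules} {φ : M ⟶ M} {a : Γ(X, ⊤)}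
    (h : (SheafOfModules.toSheaf X.ringCatSheaf).map φ = Coh.smulAb M a) : φ = scal a M :=
  (SheafOfModules.toSheaf X.ringCatSheaf).map_injective (h.trans (toSheaf_scal a M).symm)

theorem tmap_scal (a : Γ(X, ⊤)) (M N : X.Modules) : tmap (scal a M) N = scal a (CohB1.tensorMod M N) := by
  refine TMul.hom_ext fun U m n => ?_
  rw [CohFinite.tmap_tm, scal_app, scal_app, TMul.smul_tm]

/-- endomorphisms of an invertible module are multiplications by functions -/
theorem exists_scal {L L' : X.Modules} (η : CohB1.tensorMod L' L ≅ Coh.structureModule X)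
    (hL' : PicF.IsInvertible L') (φ : L ⟶ L) : ∃ a : Γ(X, ⊤), φ = scal a L := by
  let θ := TMul.commIso L L' ≪≫ η
  let y : Γ(Coh.structureModule X, ⊤) := θ.hom.app ⊤ ((tmap φ L').app ⊤ (gen₀ η))
  refine ⟨(show Γ(X, ⊤) from y), hom_eq_of_gen η hL' ?_⟩
  rw [tmap_scal]
  refine (ConcreteCategory.bijective_of_isIso (θ.hom.app ⊤)).1 ?_
  show y = θ.hom.app ⊤ ((scal (show Γ(X, ⊤) from y) (CohB1.tensorMod L L')).app ⊤ (gen₀ η))
  rw [scal_app, Groth.Agent.QC.resO_self, TMul.app_smul]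
  have h1 : θ.hom.app ⊤ (gen₀ η) = (1 : Γ(X, ⊤)) :=
    congrArg (fun χ : Coh.structureModule X ⟶ Coh.structureModule X => χ.app ⊤ (1 : Γ(X, ⊤))) θ.inv_hom_id
  rw [h1]
  exact (mul_one (show Γ(X, ⊤) from y)).symm

variable {k : Type u} [Field k] (g : k →+* Γ(X, ⊤))

/-- the endomorphism of a finite sum with the given scalar matrix -/
def matEnd {b : ℕ} (L : X.Modules) (M : Matrix (Fin b) (Fin b) k) :
    (⨁ fun _ : Fin b => L) ⟶ ⨁ fun _ : Fin b => L :=
  biproduct.matrix fun j t => scal (g (M j t)) L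

theorem ι_matEnd_π {b : ℕ} (L : X.Modules) (M : Matrix (Fin b) (Fin b) k) (j t : Fin b) :
    biproduct.ι (fun _ : Fin b => L) j ≫ matEnd g L M ≫ biproduct.π (fun _ : Fin b => L) t = scal (g (M j t)) L := by
  simp [matEnd]

theorem matEnd_mul {b : ℕ} (L : X.Modules) (M N : Matrix (Fin b) (Fin b) k) :
    matEnd g L (M * N) = matEnd g L M ≫ matEnd g L N := by
  refine biproduct.hom_ext _ _ fun t => biproduct.hom_ext' _ _ fun j => ?_
  rw [ι_matEnd_π, Matrix.mul_apply, map_sum, scal_sum]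
  have h : ∑ l, (biproduct.ι (fun _ : Fin b => L) j ≫ matEnd g L M ≫ biproduct.π (fun _ : Fin b => L) l) ≫
      (biproduct.ι (fun _ : Fin b => L) l ≫ matEnd g L N ≫ biproduct.π (fun _ : Fin b => L) t) =
      biproduct.ι (fun _ : Fin b => L) j ≫ (matEnd g L M ≫ matEnd g L N) ≫ biproduct.π (fun _ : Fin b => L) t := by
    calc _ = (biproduct.ι (fun _ : Fin b => L) j ≫ matEnd g L M) ≫
          (∑ l, biproduct.π (fun _ : Fin b => L) l ≫ biproduct.ι (fun _ : Fin b => L) l) ≫
          (matEnd g L N ≫ biproduct.π (fun _ : Fin b => L) t) := by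
            simp only [Preadditive.comp_sum, Preadditive.sum_comp, Category.assoc]
      _ = _ := by rw [biproduct.total, Category.id_comp]; simp only [Category.assoc]
  rw [← h]
  refine Finset.sum_congr rfl fun l _ => ?_
  rw [ι_matEnd_π, ι_matEnd_π, map_mul, scal_mul]

theorem matEnd_one {b : ℕ} (L : X.Modules) : matEnd g L (1 : Matrix (Fin b) (Fin b) k) = 𝟙 _ := by
  refine biproduct.hom_ext _ _ fun t => biproduct.hom_ext' _ _ fun j => ?_
  rw [ι_matEnd_π, Category.id_comp, Matrix.one_apply]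
  split_ifs with h
  · subst h
    rw [map_one, scal_one, biproduct.ι_π_self]
  · rw [map_zero, scal_zero, biproduct.ι_π_ne _ h]

theorem matEnd_shift {b : ℕ} (L : X.Modules) (M : Matrix (Fin b) (Fin b) k) (c : k) :
    matEnd g L (algebraMap k _ c - M) = scal (g c) _ - matEnd g L M := by
  refine biproduct.hom_ext _ _ fun t => biproduct.hom_ext' _ _ fun j => ?_
  rw [ι_matEnd_π, Preadditive.sub_comp, Preadditive.comp_sub, ι_matEnd_π, Matrix.sub_apply, map_sub,
    Matrix.algebraMap_eq_diagonal, Matrix.diagonal_apply, scal_comp, ← Category.assoc]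
  have hs : scal (g (if j = t then c else 0)) L =
      (biproduct.ι (fun _ : Fin b => L) j ≫ biproduct.π (fun _ : Fin b => L) t) ≫ scal (g c) L := by
    split_ifs with h
    · subst h
      rw [biproduct.ι_π_self, Category.id_comp]
    · rw [map_zero, scal_zero, biproduct.ι_π_ne _ h, zero_comp]
  have hd : ∀ a a' : Γ(X, ⊤), scal (a - a') L = scal a L - scal a' L := fun a a' => by
    rw [eq_sub_iff_add_eq, ← scal_add, sub_add_cancel]
  rw [hd, ← hs]
  congr 3

/-- almost every shift of an endomorphism of a finite sum is invertible -/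
theorem exists_finite_shift (hg : Function.Surjective g) {b : ℕ} {L L' : X.Modules}
    (η : CohB1.tensorMod L' L ≅ Coh.structureModule X) (hL' : PicF.IsInvertible L') {Q : X.Modules}
    (eQ : Q ≅ ∐ fun _ : Fin b => L) (β : Q ⟶ Q) :
    ∃ T : Set k, T.Finite ∧ ∀ c ∉ T, IsIso (scal (g c) Q - β) := by
  let e : Q ≅ ⨁ fun _ : Fin b => L := eQ ≪≫ (biproduct.isoCoproduct _).symm
  choose a ha using fun j t => exists_scal η hL'
    (biproduct.ι (fun _ : Fin b => L) j ≫ (e.inv ≫ β ≫ e.hom) ≫ biproduct.π (fun _ : Fin b => L) t)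
  choose m hm using fun j t => hg (a j t)
  let M : Matrix (Fin b) (Fin b) k := Matrix.of m
  have hβ : e.inv ≫ β ≫ e.hom = matEnd g L M := by
    refine biproduct.hom_ext _ _ fun t => biproduct.hom_ext' _ _ fun j => ?_
    rw [ι_matEnd_π]
    show _ = scal (g (m j t)) L
    rw [hm, ← ha]
  refine ⟨spectrum k M, Matrix.finite_spectrum M, fun c hc => ?_⟩
  obtain ⟨⟨A, B, hAB, hBA⟩, hA⟩ := spectrum.notMem_iff.1 hc
  have hA' : A = algebraMap k _ c - M := hA
  have key : scal (g c) Q - β = e.hom ≫ matEnd g L A ≫ e.inv := by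
    rw [hA', matEnd_shift, ← hβ]
    simp only [Preadditive.sub_comp, Preadditive.comp_sub, Category.assoc, Iso.hom_inv_id, Iso.hom_inv_id_assoc,
      Category.comp_id]
    rw [scal_comp, Iso.hom_inv_id_assoc]
  rw [key]
  haveI : IsIso (matEnd g L A) :=
    ⟨⟨matEnd g L B, by rw [← matEnd_mul, hAB, matEnd_one], by rw [← matEnd_mul, hBA, matEnd_one]⟩⟩
  infer_instance

end Scalars

section Coker

variable {P Q : X.Modules} {f f' : P ⟶ Q} [Mono f] [Mono f']

theorem coker_shortExact (f : P ⟶ Q) [Mono f] :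
    (ShortComplex.mk f (cokernel.π f) (cokernel.condition f)).ShortExact :=
  { exact := ShortComplex.exact_of_g_is_cokernel _ (cokernelIsCokernel f) }

/-- factor through the first map -/
theorem exists_factor {A : X.Modules} (x : A ⟶ Q) (h : x ≫ cokernel.π f = 0) : ∃ y : A ⟶ P, y ≫ f = x := by
  haveI : Mono (ShortComplex.mk f (cokernel.π f) (cokernel.condition f)).f := ‹Mono f›
  exact ⟨(coker_shortExact f).exact.lift x h, (coker_shortExact f).exact.lift_f x h⟩

/-- isomorphic cokernels come from one orbit -/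
theorem exists_auto (hzero : ∀ h : Q ⟶ P, h = 0) (hlift : ∀ φ : Q ⟶ cokernel f, ∃ β : Q ⟶ Q, β ≫ cokernel.π f = φ)
    (hlift' : ∀ φ : Q ⟶ cokernel f', ∃ β : Q ⟶ Q, β ≫ cokernel.π f' = φ) (φ : cokernel f ≅ cokernel f') :
    ∃ (β : Q ≅ Q) (γ : P ≅ P), f ≫ β.hom = γ.hom ≫ f' := by
  obtain ⟨β, hβ⟩ := hlift' (cokernel.π f ≫ φ.hom)
  obtain ⟨β', hβ'⟩ := hlift (cokernel.π f' ≫ φ.inv)
  obtain ⟨γ, hγ⟩ := exists_factor (f := f') (f ≫ β) (by rw [Category.assoc, hβ, cokernel.condition_assoc, zero_comp])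
  obtain ⟨γ', hγ'⟩ := exists_factor (f := f) (f' ≫ β') (by rw [Category.assoc, hβ', cokernel.condition_assoc, zero_comp])
  have h1 : β ≫ β' = 𝟙 Q := by
    obtain ⟨h, hh⟩ := exists_factor (f := f) (β ≫ β' - 𝟙 Q) (by
      rw [Preadditive.sub_comp, Category.assoc, hβ', ← Category.assoc, hβ, Category.assoc, Iso.hom_inv_id,
        Category.comp_id, Category.id_comp, sub_self])
    rw [hzero h, zero_comp] at hh
    exact sub_eq_zero.1 hh.symm
  have h2 : β' ≫ β = 𝟙 Q := by
    obtain ⟨h, hh⟩ := exists_factor (f := f') (β' ≫ β - 𝟙 Q) (by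
      rw [Preadditive.sub_comp, Category.assoc, hβ, ← Category.assoc, hβ', Category.assoc, Iso.inv_hom_id,
        Category.comp_id, Category.id_comp, sub_self])
    rw [hzero h, zero_comp] at hh
    exact sub_eq_zero.1 hh.symm
  have h3 : γ ≫ γ' = 𝟙 P := by
    rw [← cancel_mono f, Category.assoc, hγ', ← Category.assoc, hγ, Category.assoc, h1, Category.comp_id,
      Category.id_comp]
  have h4 : γ' ≫ γ = 𝟙 P := by
    rw [← cancel_mono f', Category.assoc, hγ, ← Category.assoc, hγ', Category.assoc, h2, Category.comp_id,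
      Category.id_comp]
  exact ⟨⟨β, β', h1, h2⟩, ⟨γ, γ', h3, h4⟩, hγ.symm⟩

open Groth.Agent.PicBdd (scal scal_comp)

/-- a cokernel is simple if the stabiliser is the scalars -/
theorem simple_of_stab {k : Type u} [Field k] [Infinite k] (g : k →+* Γ(X, ⊤))
    (hlift : ∀ φ : Q ⟶ cokernel f, ∃ β : Q ⟶ Q, β ≫ cokernel.π f = φ)
    (hβ : ∀ β : Q ⟶ Q, ∃ T : Set k, T.Finite ∧ ∀ c ∉ T, IsIso (scal (g c) Q - β))
    (hγ : ∀ γ : P ⟶ P, ∃ T : Set k, T.Finite ∧ ∀ c ∉ T, IsIso (scal (g c) P - γ))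
    (hstab : ∀ (β : Q ≅ Q) (γ : P ≅ P), γ.hom ≫ f = f ≫ β.hom → ∃ c : k, β.hom = scal (g c) Q)
    (φ : cokernel f ⟶ cokernel f) :
    ∃ c : k, (SheafOfModules.toSheaf X.ringCatSheaf).map φ = Coh.smulAb (cokernel f) (g c) := by
  obtain ⟨β, hb⟩ := hlift (cokernel.π f ≫ φ)
  obtain ⟨γ, hc⟩ := exists_factor (f := f) (f ≫ β) (by rw [Category.assoc, hb, cokernel.condition_assoc, zero_comp])
  obtain ⟨T, hT, hTβ⟩ := hβ β
  obtain ⟨T', hT', hTγ⟩ := hγ γ
  obtain ⟨c, hc'⟩ := (hT.union hT').infinite_compl.nonempty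
  simp only [Set.mem_compl_iff, Set.mem_union, not_or] at hc'
  haveI := hTβ c hc'.1
  haveI := hTγ c hc'.2
  obtain ⟨d, hd⟩ := hstab (asIso (scal (g c) Q - β)) (asIso (scal (g c) P - γ)) (by
    rw [asIso_hom, asIso_hom, Preadditive.sub_comp, Preadditive.comp_sub, hc, scal_comp])
  refine ⟨c - d, ?_⟩
  have hβ' : β = scal (g (c - d)) Q := by
    rw [asIso_hom] at hd
    have h := scal_add (g (c - d)) (g d) Q
    rw [← map_add, sub_add_cancel, ← hd, add_sub, eq_sub_iff_add_eq] at h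
    rw [add_comm (scal (g (c - d)) Q) (scal (g c) Q)] at h
    exact add_left_cancel h
  rw [← toSheaf_scal]
  refine congrArg _ ?_
  rw [← cancel_epi (cokernel.π f), ← hb, hβ', scal_comp]

end Coker

end Groth.Agent.BlowPn
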