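import Groth.Agent.BlowPn.Twists
import Groth.Agent.BlowCech.InvExc
import Mathlib

/-!
# Modules that become pullbacks after multiplication by a power of the exceptional ideal
-/

set_option autoImplicit false
set_option linter.style.haveILetI false
set_option backward.isDefEq.respectTransparency false
set_option backward.isDefEq.respectTransparency.types false
set_option maxHeartbeats 1000000
universe u

open CategoryTheory CategoryTheory.Limits AlgebraicGeometry TopologicalSpace Opposite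
open Groth.Agent.QC (res resO res_res res_smul app_res)
open Groth.Agent.BlowCech (Charts LocData ideal_pow_DS dK ksign)
open Groth.Agent.SiteCoh
open TMul (tm)

noncomputable section

namespace Groth.Agent.BlowPn

open Wiebe (Acyclic)

variable {X X' : Scheme.{u}} {f : X' ⟶ X}

/-- the power of the exceptional ideal as a module -/
abbrev EP (f : X' ⟶ X) (J : X.IdealSheafData) (b : ℕ) : X'.Modules :=
  ClSub.idealMod (BlowUp.exceptional f J ^ b)

/-- the map `F ⊗ E^b → F` -/
def lamP (J : X.IdealSheafData) (b : ℕ) (F : X'.Modules) : CohB1.tensorMod F (EP f J b) ⟶ F :=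
  TMul.commHom F (EP f J b) ≫ CohFinite.tmap (ClSub.idealModι (BlowUp.exceptional f J ^ b)) F ≫
    (TMul.leftUnitIso F).hom

theorem lamP_tm (J : X.IdealSheafData) (b : ℕ) (F : X'.Modules) {V : X'.Opens} (s : Γ(F, V)) (t : Γ(EP f J b, V)) :
    (lamP J b F).app V (tm s t) =
      (show Γ(X', V) from (ClSub.idealModι (BlowUp.exceptional f J ^ b)).app V t) • s := by
  show (TMul.leftUnitIso F).hom.app V ((CohFinite.tmap _ F).app V ((TMul.commHom F (EP f J b)).app V (tm s t))) = _
  rw [TMul.commHom_tm, CohFinite.tmap_tm]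
  exact CurveRR.leftUnitIso_tm F _ s

variable {U : X.affineOpens} {N : ℕ} {a : Fin N → Γ(X, U.1)} (C : Charts f U a) {J : X.IdealSheafData}
  (hI : J.ideal U = Ideal.span (Set.range a)) {b : ℕ} {F L₀ : X'.Modules} {g : Γ(L₀, f ⁻¹ᵁ U.1)}
  (hg : TMul.IsGen g) (ε : CohB1.tensorMod F (EP f J b) ≅ L₀)

include hI in
theorem exists_barP (S : Finset (Fin N)) (hS : S.Nonempty) {T : Finset (Fin N)} (hT : T.Nonempty) (b : ℕ) :
    ∃ t : Γ(EP f J b, C.DS S),
      (ClSub.idealModι (BlowUp.exceptional f J ^ b)).app (C.DS S) t = C.rS S ((∏ j ∈ T, a j) ^ b) := by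
  refine (QC.mem_range_idealModι_affine (BlowUp.exceptional f J ^ b) ⟨C.DS S, C.affine_DS hS⟩ _).2 ?_
  rw [ideal_pow_DS C hI hS b, map_pow]
  obtain ⟨i, hi⟩ := hT
  exact Ideal.pow_mem_pow (Ideal.mem_map_of_mem _
    (Ideal.mem_of_dvd _ (Finset.dvd_prod_of_mem a hi) (Ideal.subset_span (s := Set.range a) ⟨i, rfl⟩))) b

include hI in
/-- the section of the ideal given by the product of the generators of a set of charts -/
def barP (b : ℕ) (S : Finset (Fin N)) : Γ(EP f J b, C.DS S) :=
  if h : S.Nonempty then (exists_barP C hI S h h b).choose else 0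

include hI in
theorem app_barP {S : Finset (Fin N)} (h : S.Nonempty) :
    (show Γ(X', C.DS S) from (ClSub.idealModι (BlowUp.exceptional f J ^ b)).app (C.DS S) (barP C hI b S)) =
      C.rS S ((∏ j ∈ S, a j) ^ b) := by
  rw [barP, dif_pos h]
  exact (exists_barP C hI S h h b).choose_spec

theorem nzd_pow {S : Finset (Fin N)} {i : Fin N} (hi : i ∈ S) (b : ℕ) :
    C.rS S (a i ^ b) ∈ nonZeroDivisors Γ(X', C.DS S) := by
  rw [map_pow]
  exact pow_mem (C.nzd_DS hi) b

include hI in
theorem exists_isGenP {S : Finset (Fin N)} {i : Fin N} (hi : i ∈ S) :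
    ∃ t : Γ(EP f J b, C.DS S), TMul.IsGen t ∧
      (show Γ(X', C.DS S) from (ClSub.idealModι (BlowUp.exceptional f J ^ b)).app (C.DS S) t) = C.rS S (a i ^ b) := by
  have hS : S.Nonempty := ⟨i, hi⟩
  obtain ⟨t, ht⟩ := exists_barP C hI S hS (Finset.singleton_nonempty i) b
  rw [Finset.prod_singleton] at ht
  have hinj := QC.app_injective_of_mono (ClSub.idealModι (BlowUp.exceptional f J ^ b)) (C.DS S)
  have hb : TMul.IsFrame (fun _ : Fin 1 => t) := by
    refine PBundle.isFrame_of_bijective (QC.isQCoh_idealMod _) (C.affine_DS hS) ⟨fun c c' h => ?_, fun s => ?_⟩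
    · simp only [Fin.sum_univ_one] at h
      have h1 := congrArg ((ClSub.idealModι (BlowUp.exceptional f J ^ b)).app (C.DS S)) h
      rw [TMul.app_smul, TMul.app_smul, ht] at h1
      exact funext fun k => by
        rw [Subsingleton.elim k 0]
        exact (mul_cancel_right_mem_nonZeroDivisors (nzd_pow C hi b)).1 h1
    · have h0 := (QC.mem_range_idealModι_affine (BlowUp.exceptional f J ^ b) ⟨C.DS S, C.affine_DS hS⟩ _).1 ⟨s, rfl⟩
      rw [ideal_pow_DS C hI hS b, C.IS_eq hi, Ideal.span_singleton_pow] at h0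
      obtain ⟨c, hc⟩ := Ideal.mem_span_singleton'.1 h0
      refine ⟨fun _ => c, hinj ?_⟩
      simp only [Fin.sum_univ_one]
      rw [TMul.app_smul, ht, map_pow]
      exact hc
  refine ⟨t, fun V hV => ?_, ht⟩
  have := (hb.equiv hV).bijective.comp (Equiv.funUnique (Fin 1) Γ(X', V)).symm.bijective
  convert this using 1
  funext c
  show c • res _ hV t = ∑ k, (Equiv.funUnique (Fin 1) Γ(X', V)).symm c k • res _ hV t
  rw [Fin.sum_univ_one]
  rfl

/-- the coefficient with respect to the generator -/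
def co (S : Finset (Fin N)) : Γ(L₀, C.DS S) ≃ₗ[Γ(X', C.DS S)] Γ(X', C.DS S) :=
  (TMul.coeffEquiv hg (C.DS_le_U S)).symm

theorem co_res {S T : Finset (Fin N)} (h : S ⊆ T) (w : Γ(L₀, C.DS S)) :
    co C hg T (res L₀ (C.DS_anti h) w) = C.res h (co C hg S w) := by
  refine (LinearEquiv.symm_apply_eq _).2 ?_
  conv_lhs => rw [← (TMul.coeffEquiv hg (C.DS_le_U S)).apply_symm_apply w]
  show res L₀ (C.DS_anti h) (co C hg S w • res L₀ (C.DS_le_U S) g) = C.res h (co C hg S w) • res L₀ (C.DS_le_U T) g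
  rw [res_smul, res_res]

/-- the twisted value of a section -/
def phiP (S : Finset (Fin N)) : Γ(F, C.DS S) →+ Γ(X', C.DS S) :=
  AddMonoidHom.mk' (fun s => co C hg S (ε.hom.app (C.DS S) (tm s (barP C hI b S))))
    (fun s t => by rw [TMul.tm_add, map_add, map_add])

theorem barP_eq {S : Finset (Fin N)} {i : Fin N} (hi : i ∈ S) {t : Γ(EP f J b, C.DS S)}
    (ht : (show Γ(X', C.DS S) from (ClSub.idealModι (BlowUp.exceptional f J ^ b)).app (C.DS S) t) = C.rS S (a i ^ b)) :
    barP C hI b S = C.rS S ((∏ j ∈ S.erase i, a j) ^ b) • t := by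
  refine QC.app_injective_of_mono (ClSub.idealModι (BlowUp.exceptional f J ^ b)) (C.DS S) ?_
  rw [TMul.app_smul]
  refine (app_barP C hI ⟨i, hi⟩).trans ?_
  rw [← Finset.mul_prod_erase S a hi, mul_pow, map_mul, mul_comm, ← ht]
  rfl

theorem phiP_eq {S : Finset (Fin N)} {i : Fin N} (hi : i ∈ S) {t : Γ(EP f J b, C.DS S)}
    (ht : (show Γ(X', C.DS S) from (ClSub.idealModι (BlowUp.exceptional f J ^ b)).app (C.DS S) t) = C.rS S (a i ^ b))
    (s : Γ(F, C.DS S)) :
    phiP C hI hg ε S s =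
      C.rS S ((∏ j ∈ S.erase i, a j) ^ b) * co C hg S (ε.hom.app (C.DS S) (tm s t)) := by
  show co C hg S (ε.hom.app (C.DS S) (tm s (barP C hI b S))) = _
  rw [barP_eq C hI hi ht, TMul.tm_smul, TMul.app_smul, map_smul]
  rfl

theorem bijective_pairP {S : Finset (Fin N)} {t : Γ(EP f J b, C.DS S)} (ht : TMul.IsGen t) :
    Function.Bijective fun s : Γ(F, C.DS S) => co C hg S (ε.hom.app (C.DS S) (tm s t)) := by
  have h1 := TMul.tm_bijective (M := F) ht (C.DS S) le_rfl
  simp only [QC.res_self] at h1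
  exact (co C hg S).bijective.comp ((ConcreteCategory.bijective_of_isIso (ε.hom.app (C.DS S))).comp h1)

theorem phiP_sec {S : Finset (Fin N)} {i : Fin N} (hi : i ∈ S) (w : Γ(L₀, C.DS S)) :
    phiP C hI hg ε S ((lamP J b F).app (C.DS S) (ε.inv.app (C.DS S) w)) =
      co C hg S w * C.rS S ((∏ j ∈ S, a j) ^ b) := by
  obtain ⟨t, hgen, ht⟩ := exists_isGenP (b := b) C hI hi
  have h1 := TMul.tm_bijective (M := F) hgen (C.DS S) le_rfl
  simp only [QC.res_self] at h1
  obtain ⟨ℓ, hℓ⟩ := h1.2 (ε.inv.app (C.DS S) w)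
  have hw : ε.hom.app (C.DS S) (tm ℓ t) = w := by
    rw [show tm ℓ t = ε.inv.app (C.DS S) w from hℓ]
    exact congrArg (fun φ : L₀ ⟶ L₀ => φ.app (C.DS S) w) ε.inv_hom_id
  rw [← hℓ, lamP_tm, ht, phiP_eq C hI hg ε hi ht, TMul.smul_tm, TMul.app_smul, hw, map_smul,
    ← Finset.mul_prod_erase S a hi, mul_pow, map_mul]
  show _ * (C.rS S (a i ^ b) * co C hg S w) = _
  ring

/-- such a module as a twist -/
def invPowTwist : C.Twist (res' (𝟭 X'.Opens) (Coh.toAb F)) (-(b : ℤ)) b where
  Φ S := phiP C hI hg ε S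
  inj S hS := by
    obtain ⟨i, hi⟩ := hS
    obtain ⟨t, hgen, ht⟩ := exists_isGenP (b := b) C hI hi
    intro s s' h
    have h' := (phiP_eq C hI hg ε hi ht s).symm.trans (h.trans (phiP_eq C hI hg ε hi ht s'))
    refine (bijective_pairP C hg ε hgen).1 ((mul_cancel_left_mem_nonZeroDivisors ?_).1 h')
    exact C.nzd_prod S (Finset.erase_subset i S) b
  range S hS v := by
    obtain ⟨i, hi⟩ := hS
    obtain ⟨t, hgen, ht⟩ := exists_isGenP (b := b) C hI hi
    have hspan : C.IS S ^ (-(b : ℤ) + (b : ℕ) * (S.card : ℤ)).toNat =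
        Ideal.span {C.rS S ((∏ j ∈ S.erase i, a j) ^ b)} := by
      have hc : 1 ≤ S.card := Finset.card_pos.2 ⟨i, hi⟩
      rw [show (-(b : ℤ) + (b : ℕ) * (S.card : ℤ)).toNat = (S.erase i).card * b by
          rw [Finset.card_erase_of_mem hi,
            show (-(b : ℤ) + (b : ℕ) * (S.card : ℤ)) = (((S.card - 1) * b : ℕ) : ℤ) by push_cast [hc]; ring,
            Int.toNat_natCast],
        map_pow, map_prod, ← Ideal.span_singleton_pow, ← Ideal.prod_span_singleton, pow_mul, ← Finset.prod_const]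
      congr 1
      exact Finset.prod_congr rfl fun j hj => C.IS_eq (Finset.mem_of_mem_erase hj)
    rw [hspan, Ideal.mem_span_singleton']
    constructor
    · rintro ⟨s, rfl⟩
      exact ⟨_, (mul_comm _ _).trans (phiP_eq C hI hg ε hi ht s).symm⟩
    · rintro ⟨c, rfl⟩
      obtain ⟨s, hs⟩ := (bijective_pairP C hg ε hgen).2 c
      exact ⟨s, (phiP_eq C hI hg ε hi ht s).trans (by rw [← hs, mul_comm])⟩
  map S T h hS s := by
    obtain ⟨i, hi⟩ := hS
    have hbar : barP C hI b T = C.rS T ((∏ j ∈ T \ S, a j) ^ b) • res (EP f J b) (C.DS_anti h) (barP C hI b S) := by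
      refine QC.app_injective_of_mono (ClSub.idealModι (BlowUp.exceptional f J ^ b)) (C.DS T) ?_
      rw [TMul.app_smul, ← app_res]
      refine (app_barP C hI ⟨i, h hi⟩).trans ?_
      show _ = C.rS T _ * C.res h (show Γ(X', C.DS S) from
        (ClSub.idealModι (BlowUp.exceptional f J ^ b)).app (C.DS S) (barP C hI b S))
      rw [app_barP C hI ⟨i, hi⟩, C.res_rS, ← map_mul, ← mul_pow, Finset.prod_sdiff h]
    show co C hg T (ε.hom.app (C.DS T) (tm (res F (C.DS_anti h) s) (barP C hI b T))) = _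
    rw [hbar, TMul.tm_smul, TMul.app_smul, ← TMul.res_tm, ← app_res, map_smul, co_res]
    exact mul_comm _ _

include C hI hg ε in
theorem subsingleton_hu_invPow [F.IsQuasicoherent] (ha : Acyclic a) (hN : 0 < N) (hb : b + 1 ≤ N) (q : ℕ) :
    Subsingleton (CohSite.HU (Coh.toAb F) (q + 1) (f ⁻¹ᵁ U.1)) :=
  Charts.subsingleton_hu F (invPowTwist C hI hg ε) ha hN (by omega) (by omega) q

include C hI hg in
/-- all sections over the preimage come from the base -/
theorem surjective_invPow (ha : Acyclic a) (hN : 0 < N) (hb : b + 1 ≤ N) :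
    Function.Surjective ((lamP J b F).app (f ⁻¹ᵁ U.1) ∘ ε.inv.app (f ⁻¹ᵁ U.1)) := by
  classical
  intro z
  let v : ∀ T : Finset (Fin N), Γ(X', C.DS T) := fun T => phiP C hI hg ε T (res F (C.DS_le_U T) z)
  have hv : ∀ T : Finset (Fin N), T.card = 1 → v T ∈ C.IS T ^ (-(b : ℤ) + (b : ℕ) * ((1 : ℕ) : ℤ)).toNat :=
    fun T _ => by simp
  have hd : ∀ T : Finset (Fin N), T.card = 1 + 1 → C.dS b v T = 0 := by
    intro T hT
    have hterm : ∀ j ∈ T, C.rS T (ksign T j * a j ^ b) * C.res (Finset.erase_subset j T) (v (T.erase j)) =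
        C.rS T (ksign T j) * phiP C hI hg ε T (res F (C.DS_le_U T) z) := by
      intro j hj
      have hne : (T.erase j).Nonempty := Finset.card_pos.1 (by rw [Finset.card_erase_of_mem hj]; omega)
      have e := (invPowTwist C hI hg ε).map (T.erase j) T (Finset.erase_subset j T) hne (res F (C.DS_le_U _) z)
      rw [Finset.sdiff_erase_self hj, Finset.prod_singleton] at e
      have e1 : phiP C hI hg ε T (res F (C.DS_le_U T) z) =
          C.res (Finset.erase_subset j T) (v (T.erase j)) * C.rS T (a j ^ b) :=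
        (congrArg (phiP C hI hg ε T) (res_res F (C.DS_anti (Finset.erase_subset j T)) (C.DS_le_U _) z).symm).trans e
      rw [e1, map_mul]
      ring
    rw [Charts.dS, Finset.sum_congr rfl hterm, ← Finset.sum_mul, ← map_sum]
    obtain ⟨i, j, hij, rfl⟩ := Finset.card_eq_two.1 hT
    rw [Finset.sum_pair hij, ksign, ksign, Finset.prod_pair hij, Finset.prod_pair hij, if_neg (lt_irrefl i),
      if_neg (lt_irrefl j)]
    rcases lt_or_gt_of_ne hij with h | h
    · rw [if_neg h.not_gt, if_pos h]; simp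
    · rw [if_pos h, if_neg h.not_gt]; simp
  obtain ⟨k, h, -, he⟩ := C.exists_koszul ha (m := -(b : ℤ)) (δ := b) hN (by omega) (by omega)
    (p := 1) Nat.one_pos v hv hd
  refine ⟨f.app U.1 (h ∅) • g, QC.section_eq_of_locally fun x hx => ?_⟩
  obtain ⟨j, hj⟩ := Opens.mem_iSup.1 (C.cover hx)
  refine ⟨C.DS {j}, C.DS_le_U _, ⟨by simpa using hj, hx⟩, ?_⟩
  refine (invPowTwist C hI hg ε).inj {j} (Finset.singleton_nonempty j) ?_
  show phiP C hI hg ε {j} (res F _ ((lamP J b F).app _ (ε.inv.app _ (f.app U.1 (h ∅) • g)))) = v {j}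
  rw [app_res, app_res, phiP_sec C hI hg ε (Finset.mem_singleton_self j), Finset.prod_singleton, res_smul]
  have hco : co C hg {j} (resO X' (C.DS_le_U {j}) (f.app U.1 (h ∅)) • res L₀ (C.DS_le_U {j}) g) = C.rS {j} (h ∅) := by
    refine (LinearEquiv.symm_apply_eq _).2 ?_
    rfl
  rw [hco]
  have h1 := he {j} (Finset.card_singleton j)
  simp only [dK, ksign, Finset.sum_singleton, Finset.prod_singleton, lt_irrefl, if_false, one_mul,
    Finset.erase_singleton] at h1
  refine (mul_cancel_right_mem_nonZeroDivisors (C.nzd_prod {j} (Finset.Subset.refl _) k)).1 ?_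
  rw [Finset.prod_singleton, ← h1]
  simp only [map_mul, map_pow, pow_add]
  ring

end Groth.Agent.BlowPn
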