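import Groth.Agent.BlowPn.Points
import Groth.Agent.VBP1P1.Cohom
import Groth.Agent.TMul.Pullback
import Mathlib

/-!
# Twists `π^*O(c) ⊗ E^d`
-/

set_option autoImplicit false
set_option backward.isDefEq.respectTransparency false
set_option backward.isDefEq.respectTransparency.types false
set_option maxHeartbeats 1000000

universe u

open CategoryTheory CategoryTheory.Limits AlgebraicGeometry TopologicalSpace

noncomputable section

namespace Groth.Agent.BlowPn

theorem subsingleton_hh_X₃ {X : Scheme.{u}} {S : ShortComplex X.Modules} (hS : S.ShortExact) (q : ℕ)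
    (h₂ : Subsingleton (Coh.HH X S.X₂ q)) (h₁ : Subsingleton (Coh.HH X S.X₁ (q + 1))) :
    Subsingleton (Coh.HH X S.X₃ q) := by
  refine subsingleton_of_forall_eq 0 fun x => ?_
  obtain ⟨y, rfl⟩ := (CohFinite.δH_eq_zero_iff (CohQC.seq_shortExact hS) q x).1 (h₁.elim _ _)
  rw [show y = 0 from h₂.elim _ _, map_zero]

variable {k : Type u} [Field k] {n : ℕ} {X : Scheme.{u}} (π : X ⟶ CohB1.ProjSpace n k) (I : X.IdealSheafData)

/-- `π^*O(c) ⊗ I^d` -/
abbrev M (c : ℤ) (d : ℕ) : X.Modules :=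
  CohB1.tensorMod ((Scheme.Modules.pullback π).obj (Twist.twistProjSpace n k c))
    (CohB1.tensorPow (ClSub.idealMod I) d)

theorem nonempty_pull_add (a b c : ℤ) (h : a + b = c) :
    Nonempty (CohB1.tensorMod ((Scheme.Modules.pullback π).obj (Twist.twistProjSpace n k a))
      ((Scheme.Modules.pullback π).obj (Twist.twistProjSpace n k b)) ≅
        (Scheme.Modules.pullback π).obj (Twist.twistProjSpace n k c)) := by
  obtain ⟨e⟩ := TMul.nonempty_pullTensorIso π (Twist.twistProjSpace n k a) (Twist.twistProjSpace n k b)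
  obtain ⟨θ⟩ := TwistPairing.nonempty_twist_twist (R := k) n a b c h
  exact ⟨e ≪≫ (Scheme.Modules.pullback π).mapIso θ⟩

theorem nonempty_pull_pow (a : ℤ) : ∀ t : ℕ,
    Nonempty (CohB1.tensorPow ((Scheme.Modules.pullback π).obj (Twist.twistProjSpace n k a)) t ≅
      (Scheme.Modules.pullback π).obj (Twist.twistProjSpace n k (a * t)))
  | 0 => by
    obtain ⟨z⟩ := PnHodge.nonempty_twist_zero_iso (n := n) (A := k)
    rw [Nat.cast_zero, mul_zero]
    exact ⟨(PicLoc.pullbackStructureIso π).symm ≪≫ (Scheme.Modules.pullback π).mapIso z.symm⟩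
  | t + 1 => by
    obtain ⟨e⟩ := nonempty_pull_pow a t
    obtain ⟨f⟩ := nonempty_pull_add π (a * t) a (a * (t + 1 : ℕ)) (by push_cast; ring)
    exact ⟨PicGrp.tensorModIso e (Iso.refl _) ≪≫ f⟩

/-- powers of a twist -/
theorem nonempty_M_pow (c : ℤ) (d t : ℕ) : Nonempty (CohB1.tensorPow (M π I c d) t ≅ M π I (c * t) (d * t)) := by
  obtain ⟨e⟩ := TMul.nonempty_powTensorIso ((Scheme.Modules.pullback π).obj (Twist.twistProjSpace n k c))
    (CohB1.tensorPow (ClSub.idealMod I) d) t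
  obtain ⟨e₁⟩ := nonempty_pull_pow π c t
  obtain ⟨e₂⟩ := TMul.nonempty_powMulIso (ClSub.idealMod I) d t
  exact ⟨e ≪≫ PicGrp.tensorModIso e₁ e₂⟩

theorem nonempty_twist_M (a c : ℤ) (d : ℕ) :
    Nonempty (CohB1.tensorMod ((Scheme.Modules.pullback π).obj (Twist.twistProjSpace n k a)) (M π I c d) ≅
      M π I (a + c) d) := by
  obtain ⟨e⟩ := nonempty_pull_add π a c (a + c) rfl
  exact ⟨(TMul.assocIso _ _ _).symm ≪≫ PicGrp.tensorModIso e (Iso.refl _)⟩

theorem isInvertible_M (hI : BlowUp.IsEffCartierIdeal I) (c : ℤ) (d : ℕ) : PicF.IsInvertible (M π I c d) :=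
  TMul.isInvertible_tensorMod (isInvertible_pullback π (CohFinite.isInvertible_twist n k c))
    (TMul.isInvertible_tensorPow ((Groth.Agent.S8914.result I).2 hI) d)

variable [IsAlgClosed k] {s : ℕ} (P : Fin s → ↥(CohB1.ProjSpace n k)) (hP : Function.Injective P)
  (hPc : ∀ i, IsClosed ({P i} : Set ↥(CohB1.ProjSpace n k))) (hZ : IsClosed (Set.range P)) (hn : 0 < n)
  (hπ : BlowUp.IsBlowUp π (JZ P hZ))

include hP hPc hn hπ in
theorem subsingleton_pullback (c : ℤ) {i : ℕ} (hi : 1 ≤ i) (hin : i = n → -(n : ℤ) ≤ c) :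
    Subsingleton (Coh.HH X (M π (BlowUp.exceptional π (JZ P hZ)) c 0) i) := by
  have h := subsingleton_hh_mid π (K := (⊤ : (CohB1.ProjSpace n k).IdealSheafData)) hπ
    (CohFinite.isInvertible_twist n k c) (locData_jz P hP hPc hZ hn)
    (ProjCech.twist_vanish (R := k) n c i (fun h => by omega) (fun h => by have := hin h.1; omega))
  exact subsingleton_hh_iso (TMul.commIso (Coh.structureModule X) _) i h

include hP hPc hn hπ in
theorem subsingleton_M_ge_two (c : ℤ) (d : ℕ) {i : ℕ} (hi : 2 ≤ i) (hin : i = n → -(n : ℤ) ≤ c) :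
    Subsingleton (Coh.HH X (M π (BlowUp.exceptional π (JZ P hZ)) c d) i) := by
  haveI := CohFinite.isNoetherian_projSpace n k
  obtain ⟨-, ⟨e⟩⟩ := nonempty_pow hπ.1 d
  rw [← comap_pow' π (JZ P hZ) d] at e
  have hK : Adapted (JZ P hZ) (JZ P hZ ^ d) := fun y => ⟨⊤, trivial, d, fun W _ => by
    rw [Scheme.IdealSheafData.ideal_pow, Pi.pow_apply]⟩
  have hdim : topologicalKrullDim ((JZ P hZ ^ d).support : Set ↥(CohB1.ProjSpace n k)) ≤ 0 :=
    Intersect.dim_le_zero_of_closedPoints (JZ P hZ ^ d).support.isClosed fun y hy => by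
      rcases Nat.eq_zero_or_pos d with rfl | h0
      · rw [pow_zero] at hy
        have h' : y ∈ ((⊤ : (CohB1.ProjSpace n k).IdealSheafData).support : Set _) := hy
        simp at h'
      · rw [Scheme.IdealSheafData.support_pow _ _ (by omega), Scheme.IdealSheafData.coe_support_vanishingIdeal] at hy
        obtain ⟨t, rfl⟩ := hy
        exact hPc t
  have h := subsingleton_hh_tw π hπ (CohFinite.isInvertible_twist n k c) (locData_jz P hP hPc hZ hn) hK hdim hi
    (ProjCech.twist_vanish (R := k) n c i (fun h => by omega) (fun h => by have := hin h.1; omega))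
  exact subsingleton_hh_iso ((TMul.commIso _ _) ≪≫ PicGrp.tensorModIso (Iso.refl _) e.symm) i h

include hP hPc hn hπ in
theorem subsingleton_M_one (c : ℤ) (d : ℕ) (hs : s ≤ 1) (hn' : 2 ≤ n) (hd : d = 0 ∨ (d : ℤ) ≤ c + 1) :
    Subsingleton (Coh.HH X (M π (BlowUp.exceptional π (JZ P hZ)) c d) 1) := by
  rcases Nat.eq_zero_or_pos d with rfl | h0
  · exact subsingleton_pullback π P hP hPc hZ hn hπ c le_rfl (fun h => by omega)
  obtain ⟨c', rfl⟩ : ∃ c' : ℕ, c = (c' : ℤ) := ⟨c.toNat, by omega⟩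
  rcases s.eq_zero_or_pos with rfl | hs0
  · haveI := CohFinite.isNoetherian_projSpace n k
    let z : ↥(CohB1.ProjSpace n k) := (⟨⊥, by simpa using Ideal.isPrime_bot, fun h => MvPolynomial.X_ne_zero 0
      (Ideal.mem_bot.1 (h (HomogeneousIdeal.mem_irrelevant_of_mem (CohB1.polyGrading n k) Nat.one_pos
        (MvPolynomial.isHomogeneous_X k (0 : Fin (n + 1))))))⟩ : ProjectiveSpectrum (CohB1.polyGrading n k))
    obtain ⟨p, -, hp⟩ := (isClosed_univ : IsClosed (Set.univ : Set ↥(CohB1.ProjSpace n k))).exists_closed_singleton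
      ⟨z, trivial⟩
    exact subsingleton_one P hP hPc hZ hn π hπ c' d p (fun t => t.elim0) hp (by omega)
  · exact subsingleton_one P hP hPc hZ hn π hπ c' d (P ⟨0, hs0⟩) (fun t => congrArg P (Fin.ext (by omega)))
      (hPc _) (by omega)

include hP hPc hn hπ in
/-- cokernels of maps of bundles pulled back from projective space -/
theorem subsingleton_coker (hs : s ≤ 1) (hn' : 2 ≤ n) (a b : ℕ) (cP cQ : ℤ) (P₁ Q₁ : X.Modules)
    (hP₁ : Nonempty (P₁ ≅ ∐ fun _ : Fin a => (Scheme.Modules.pullback π).obj (Twist.twistProjSpace n k cP)))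
    (hQ₁ : Nonempty (Q₁ ≅ ∐ fun _ : Fin b => (Scheme.Modules.pullback π).obj (Twist.twistProjSpace n k cQ)))
    (f : P₁ ⟶ Q₁) [Mono f] {H : X.Modules} (c : ℤ) (d : ℕ)
    (e : H ≅ M π (BlowUp.exceptional π (JZ P hZ)) c d) (hH : PicF.IsInvertible H) {i : ℕ} (hi : 1 ≤ i) (hin : i + 1 ≤ n)
    (h1 : i = 1 → d = 0 ∨ (d : ℤ) ≤ cQ + c + 1) (h2 : i + 1 = n → -(n : ℤ) ≤ cP + c) :
    Subsingleton (Coh.HH X (CohB1.tensorMod (cokernel f) H) i) := by
  have hT : (ShortComplex.mk f (cokernel.π f) (cokernel.condition f)).ShortExact :=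
    { exact := ShortComplex.exact_of_g_is_cokernel _ (cokernelIsCokernel f) }
  have hS := CohFinite.shortExact_tmap hH hT
  refine subsingleton_hh_X₃ hS i ?_ ?_
  · obtain ⟨p⟩ := hQ₁
    refine subsingleton_hh_iso (PicGrp.tensorModIso p (Iso.refl H)).symm i
      (VBP1P1.subsingleton_tensor_coprod _ _ i fun _ => ?_)
    obtain ⟨q⟩ := nonempty_twist_M π (BlowUp.exceptional π (JZ P hZ)) cQ c d
    refine subsingleton_hh_iso ((PicGrp.tensorModIso (Iso.refl _) e) ≪≫ q).symm i ?_
    rcases Nat.lt_or_ge i 2 with h | h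
    · obtain rfl : i = 1 := by omega
      exact subsingleton_M_one π P hP hPc hZ hn hπ _ d hs hn' (h1 rfl)
    · exact subsingleton_M_ge_two π P hP hPc hZ hn hπ _ d h (fun h' => by omega)
  · obtain ⟨p⟩ := hP₁
    refine subsingleton_hh_iso (PicGrp.tensorModIso p (Iso.refl H)).symm (i + 1)
      (VBP1P1.subsingleton_tensor_coprod _ _ (i + 1) fun _ => ?_)
    obtain ⟨q⟩ := nonempty_twist_M π (BlowUp.exceptional π (JZ P hZ)) cP c d
    refine subsingleton_hh_iso ((PicGrp.tensorModIso (Iso.refl _) e) ≪≫ q).symm (i + 1) ?_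
    exact subsingleton_M_ge_two π P hP hPc hZ hn hπ _ d (by omega) h2

end Groth.Agent.BlowPn
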