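import Groth.Agent.PnHodge.Euler
import Groth.Agent.VBP1P1.Cohom
import Groth.Agent.BlowPn.Twists
import Groth.Agent.CurveRR.Curve
import Mathlib

/-!
# Vanishing and generation along the Koszul sequences of an epimorphism `O^{N+1} → G`
-/

set_option autoImplicit false
set_option backward.isDefEq.respectTransparency false
set_option backward.isDefEq.respectTransparency.types false
set_option maxHeartbeats 1000000

universe u

open CategoryTheory CategoryTheory.Limits AlgebraicGeometry TopologicalSpace Opposite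
open Groth.Agent.SGA6Ext

noncomputable section

namespace Groth.Agent.BlowPn

variable {X : Scheme.{u}}

theorem subsingleton_hh_free (m : ℕ) (F : X.Modules) (q : ℕ) (h : Subsingleton (Coh.HH X F q)) :
    Subsingleton (Coh.HH X (CohB1.tensorMod (FlatMod.freeMod X m) F) q) :=
  VBP1P1.subsingleton_tensor_coprod _ _ q fun _ => subsingleton_hh_iso (TMul.leftUnitIso F).symm q h

theorem subsingleton_hh_X₁_zero {S : ShortComplex X.Modules} (hS : S.ShortExact)
    (h₂ : Subsingleton (Coh.HH X S.X₂ 0)) : Subsingleton (Coh.HH X S.X₁ 0) :=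
  @Function.Injective.subsingleton _ _ _ (CohFinite.map_f_injective (CohQC.seq_shortExact hS)) h₂

theorem subsingleton_hh_X₁_succ {S : ShortComplex X.Modules} (hS : S.ShortExact) (q : ℕ)
    (h₂ : Subsingleton (Coh.HH X S.X₂ (q + 1))) (h₃ : Subsingleton (Coh.HH X S.X₃ q)) :
    Subsingleton (Coh.HH X S.X₁ (q + 1)) := by
  refine subsingleton_of_forall_eq 0 fun x => ?_
  obtain ⟨y, rfl⟩ := (CohFinite.map_f_eq_zero_iff (CohQC.seq_shortExact hS) q x).1 (h₂.elim _ _)
  rw [show y = 0 from h₃.elim _ _, map_zero]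

variable {N : ℕ} {G : X.Modules} (hG : PicF.IsInvertible G) (q : FlatMod.freeMod X (N + 1) ⟶ G) [Epi q]

/-- the exterior powers of the kernel -/
abbrev Wg (i : ℕ) : X.Modules := extSh (kernel q) i

include hG in
/-- the twisted Koszul sequences -/
theorem exists_kseq (i : ℕ) {F : X.Modules} (hF : PicF.IsInvertible F) :
    ∃ S : ShortComplex X.Modules, S.ShortExact ∧
      Nonempty (S.X₁ ≅ CohB1.tensorMod (Wg q (i + 1)) F) ∧
      Nonempty (S.X₂ ≅ CohB1.tensorMod (FlatMod.freeMod X ((N + 1).choose (i + 1))) F) ∧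
      Nonempty (S.X₃ ≅ CohB1.tensorMod (Wg q i) (CohB1.tensorMod G F)) := by
  obtain ⟨S, hS, ⟨a⟩, ⟨b⟩, ⟨c⟩⟩ := PnHodge.exists_koszul_kernel (Iso.refl (FlatMod.freeMod X (N + 1)))
    (CurveRR.isFinLocFreeOfRank_one hG) q i
  have h := CohFinite.shortExact_tmap hF hS
  exact ⟨_, h, ⟨PicGrp.tensorModIso a (Iso.refl _)⟩, ⟨PicGrp.tensorModIso b (Iso.refl _)⟩,
    ⟨PicGrp.tensorModIso c (Iso.refl _) ≪≫ TMul.assocIso _ _ _⟩⟩

include hG in
theorem nonempty_wg_zero : Nonempty (Wg q 0 ≅ Coh.structureModule X) := by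
  have hK : FlatMod.IsFinLocFree (kernel q) := DCohLocus.isFinLocFree_kernel q
    (ResDesc.isFinLocFree_of_frames fun x => ⟨⊤, _, _, trivial, W7Strat.isFrame_freeMod X (N + 1)⟩)
    (ResDesc.isFinLocFree_of_isInvertible hG)
  obtain ⟨φ, hφ⟩ := isExtPow_extSh (kernel q) 0 hK
  obtain ⟨φ₀, hφ₀⟩ := isExtPow_zero (kernel q)
  exact nonempty_iso_of_phi (φ := φ) hφ (φ' := φ₀) hφ₀

include hG in
theorem subsingleton_wg_zero {F : X.Modules} (p : ℕ) (h : Subsingleton (Coh.HH X F p)) :
    Subsingleton (Coh.HH X (CohB1.tensorMod (Wg q 0) F) p) := by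
  obtain ⟨e⟩ := nonempty_wg_zero hG q
  exact subsingleton_hh_iso (PicGrp.tensorModIso e (Iso.refl F) ≪≫ TMul.leftUnitIso F).symm p h

include hG in
theorem isZero_wg_big {F : X.Modules} (hF : PicF.IsInvertible F) :
    IsZero (CohB1.tensorMod (Wg q (N + 1)) (CohB1.tensorMod G F)) := by
  obtain ⟨S, hS, -, ⟨b⟩, ⟨c⟩⟩ := exists_kseq hG q (N + 1) hF
  have h0 : IsZero (FlatMod.freeMod X ((N + 1).choose (N + 1 + 1))) := by
    rw [Nat.choose_eq_zero_of_lt (by omega), IsZero.iff_id_eq_zero]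
    exact Sigma.hom_ext _ _ fun j => j.elim0
  have h₂ : IsZero S.X₂ := ((PnReg.isZero_tensor_right h0 F).of_iso (TMul.commIso _ _)).of_iso b
  haveI := hS.epi_g
  exact ((IsZero.iff_id_eq_zero _).2 ((cancel_epi S.g).1 (h₂.eq_of_src _ _))).of_iso c.symm

include hG in
/-- climbing the exterior powers -/
theorem subsingleton_wg_up : ∀ (i p : ℕ) {F : X.Modules}, PicF.IsInvertible F →
    (∀ j, j ≤ p → j ≤ i → Subsingleton (Coh.HH X (CohB1.tensorMod (CohB1.tensorPow G j) F) (p - j))) →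
    Subsingleton (Coh.HH X (CohB1.tensorMod (Wg q i) F) p) := by
  intro i
  induction i with
  | zero =>
    intro p F hF h
    exact subsingleton_wg_zero hG q p
      (subsingleton_hh_iso (TMul.leftUnitIso F) p (h 0 (Nat.zero_le _) le_rfl))
  | succ i ih =>
    intro p F hF h
    obtain ⟨S, hS, ⟨a⟩, ⟨b⟩, ⟨c⟩⟩ := exists_kseq hG q i hF
    have hp : Subsingleton (Coh.HH X S.X₂ p) := subsingleton_hh_iso b.symm p (subsingleton_hh_free _ F p
      (subsingleton_hh_iso (TMul.leftUnitIso F) p (h 0 (Nat.zero_le _) (Nat.zero_le _))))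
    rcases p with _ | p
    · exact subsingleton_hh_iso a 0 (subsingleton_hh_X₁_zero hS hp)
    · refine subsingleton_hh_iso a (p + 1) (subsingleton_hh_X₁_succ hS p hp ?_)
      refine subsingleton_hh_iso c.symm p (ih p (TMul.isInvertible_tensorMod hG hF) fun j hjp hji => ?_)
      have h' := h (j + 1) (by omega) (by omega)
      rw [Nat.add_sub_add_right] at h'
      exact subsingleton_hh_iso (TMul.assocIso (CohB1.tensorPow G j) G F) _ h'

include hG q in
/-- a module is reached from its twists by positive powers of `G` -/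
theorem subsingleton_of_twists (p : ℕ) {F : X.Modules} (hF : PicF.IsInvertible F)
    (h : ∀ j, j ≤ p → j ≤ N → Subsingleton (Coh.HH X (CohB1.tensorMod (CohB1.tensorPow G (j + 1)) F) (p - j))) :
    Subsingleton (Coh.HH X F p) := by
  have hGF := TMul.isInvertible_tensorMod hG hF
  obtain ⟨S, hS, ⟨a⟩, ⟨b⟩, ⟨c⟩⟩ := exists_kseq hG q N hF
  have h₁ : IsZero S.X₁ := by
    obtain ⟨G', hG', ⟨ε⟩⟩ := SymAlg.exists_inverse hG
    refine IsZero.of_iso (isZero_wg_big hG q (TMul.isInvertible_tensorMod hG' hF)) (a ≪≫ ?_)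
    exact PicGrp.tensorModIso (Iso.refl _) ((TMul.leftUnitIso F).symm ≪≫
      PicGrp.tensorModIso ε.symm (Iso.refl F) ≪≫ TMul.assocIso G G' F)
  have h₃ : Subsingleton (Coh.HH X S.X₃ p) := by
    refine subsingleton_hh_iso c.symm p (subsingleton_wg_up hG q N p hGF fun j hjp hjN => ?_)
    exact subsingleton_hh_iso (TMul.assocIso (CohB1.tensorPow G j) G F) _ (h j hjp hjN)
  haveI := hS.mono_f
  haveI := hS.epi_g
  haveI : IsIso S.g := by
    haveI : Mono S.g := hS.exact.mono_g (h₁.eq_of_src _ _)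
    exact isIso_of_mono_of_epi _
  have h₂ := subsingleton_hh_iso (b ≪≫ PicGrp.tensorModIso
    (eqToIso (by rw [Nat.choose_self]) : _ ≅ FlatMod.freeMod X 1) (Iso.refl F)) p
    (subsingleton_hh_iso (asIso S.g).symm p h₃)
  let e₁ : FlatMod.freeMod X 1 ≅ Coh.structureModule X :=
    { hom := Sigma.desc fun _ => 𝟙 _
      inv := Sigma.ι (fun _ : Fin 1 => Coh.structureModule X) 0
      hom_inv_id := Sigma.hom_ext _ _ fun j => by simp [Subsingleton.elim j 0]
      inv_hom_id := by simp }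
  exact subsingleton_hh_iso (PicGrp.tensorModIso e₁ (Iso.refl F) ≪≫ TMul.leftUnitIso F) p h₂

include hG in
/-- descending the exterior powers along a family of twists -/
theorem subsingleton_wg_down (Φ : ℤ → X.Modules) (hΦ : ∀ c, PicF.IsInvertible (Φ c))
    (hmul : ∀ c, Nonempty (CohB1.tensorMod G (Φ c) ≅ Φ (c + 1))) :
    ∀ (m i p : ℕ) (c : ℤ), i + m = N + 1 → (∀ j : ℕ, j < m → Subsingleton (Coh.HH X (Φ (c - 1 - j)) (p + j))) →
      Subsingleton (Coh.HH X (CohB1.tensorMod (Wg q i) (Φ c)) p) := by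
  intro m
  induction m with
  | zero =>
    intro i p c hi h
    obtain rfl : i = N + 1 := by omega
    obtain ⟨e⟩ := hmul (c - 1)
    rw [sub_add_cancel] at e
    exact PnHodge.subsingleton_hh_of_isZero
      ((isZero_wg_big hG q (hΦ (c - 1))).of_iso (PicGrp.tensorModIso (Iso.refl _) e.symm)) p
  | succ m ih =>
    intro i p c hi h
    obtain ⟨S, hS, ⟨a⟩, ⟨b⟩, ⟨d⟩⟩ := exists_kseq hG q i (hΦ (c - 1))
    obtain ⟨e⟩ := hmul (c - 1)
    rw [sub_add_cancel] at e
    refine subsingleton_hh_iso (d ≪≫ PicGrp.tensorModIso (Iso.refl _) e) p (subsingleton_hh_X₃ hS p ?_ ?_)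
    · have h' := h 0 (Nat.succ_pos m)
      simp only [Nat.cast_zero, sub_zero, add_zero] at h'
      exact subsingleton_hh_iso b.symm p (subsingleton_hh_free _ _ p h')
    · refine subsingleton_hh_iso a.symm (p + 1) (ih (i + 1) (p + 1) (c - 1) (by omega) fun j hj => ?_)
      have h' := h (j + 1) (by omega)
      rw [show c - 1 - ((j + 1 : ℕ) : ℤ) = c - 1 - 1 - j by push_cast; ring, show p + (j + 1) = p + 1 + j by omega] at h'
      exact h'

end Groth.Agent.BlowPn
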