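import Groth.Agent.BlowPn.Push
import Groth.Agent.BlowPn.Chart
import Groth.Agent.Intersect.Num
import Groth.Agent.Intersect.ProperPoints
import Groth.Agent.PnHodge.Coh
import Mathlib

/-!
# Blow-ups of projective space in finitely many points
-/

set_option autoImplicit false
set_option backward.isDefEq.respectTransparency false
set_option backward.isDefEq.respectTransparency.types false
set_option maxHeartbeats 1000000
set_option linter.style.haveILetI false

universe u

open CategoryTheory CategoryTheory.Limits AlgebraicGeometry TopologicalSpace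
open Groth.Agent.QC (res resO res_smul)

noncomputable section

namespace Groth.Agent.BlowPn

variable {k : Type u} [Field k] [IsAlgClosed k] {n s : ℕ} (P : Fin s → ↥(CohB1.ProjSpace n k))
  (hP : Function.Injective P) (hPc : ∀ i, IsClosed ({P i} : Set ↥(CohB1.ProjSpace n k))) (hZ : IsClosed (Set.range P))

/-- the reduced ideal of the finite set -/
abbrev JZ : (CohB1.ProjSpace n k).IdealSheafData := Scheme.IdealSheafData.vanishingIdeal ⟨Set.range P, hZ⟩

/-- the ideal of one of the points -/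
abbrev Jp (t : Fin s) : (CohB1.ProjSpace n k).IdealSheafData := Scheme.IdealSheafData.vanishingIdeal ⟨{P t}, hPc t⟩

/-- a product of powers of the ideals of the points -/
def Kl (d : Fin s → ℕ) : List (Fin s) → (CohB1.ProjSpace n k).IdealSheafData
  | [] => ⊤
  | t :: l => Jp P hPc t ^ d t * Kl d l

omit [IsAlgClosed k] in
theorem vanishing_eq_of_le {Z Z' : Closeds ↥(CohB1.ProjSpace n k)} (W : (CohB1.ProjSpace n k).affineOpens)
    (h : ∀ x ∈ W.1, x ∈ Z ↔ x ∈ Z') :
    (Scheme.IdealSheafData.vanishingIdeal Z).ideal W = (Scheme.IdealSheafData.vanishingIdeal Z').ideal W := by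
  rw [Scheme.IdealSheafData.vanishingIdeal_ideal, Scheme.IdealSheafData.vanishingIdeal_ideal]
  refine congrArg PrimeSpectrum.vanishingIdeal (Set.ext fun z => h _ ?_)
  have := Set.mem_range_self (f := W.2.fromSpec) z
  rwa [W.2.range_fromSpec] at this

omit [IsAlgClosed k] in
include hPc in
theorem exists_only (x : ↥(CohB1.ProjSpace n k)) :
    ∃ V : (CohB1.ProjSpace n k).Opens, x ∈ V ∧ ∀ t, P t ∈ V → P t = x := by
  have hcl : IsClosed (⋃ t ∈ {t | P t ≠ x}, ({P t} : Set ↥(CohB1.ProjSpace n k))) :=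
    Set.Finite.isClosed_biUnion (Set.toFinite _) fun t _ => hPc t
  refine ⟨⟨_, hcl.isOpen_compl⟩, ?_, fun t ht => ?_⟩
  · simp only [Opens.mem_mk, Set.mem_compl_iff, Set.mem_iUnion, not_exists]
    exact fun t ht h => ht h.symm
  · by_contra h
    exact ht (Set.mem_iUnion₂.2 ⟨t, h, rfl⟩)

omit [IsAlgClosed k] in
theorem ideal_jp_top {t : Fin s} (W : (CohB1.ProjSpace n k).affineOpens) (h : P t ∉ W.1) :
    (Jp P hPc t).ideal W = ⊤ :=
  BlowBC.ideal_eq_top_of_notMem _ _ fun z hz hzs => by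
    rw [← SetLike.mem_coe, Scheme.IdealSheafData.coe_support_vanishingIdeal] at hzs
    exact h (Set.mem_singleton_iff.1 hzs ▸ hz)

omit [IsAlgClosed k] in
include hP in
theorem ideal_jp_eq {x : ↥(CohB1.ProjSpace n k)} {t : Fin s} (W : (CohB1.ProjSpace n k).affineOpens)
    (hW : ∀ t', P t' ∈ W.1 → P t' = x) (ht : P t = x) : (Jp P hPc t).ideal W = (JZ P hZ).ideal W :=
  vanishing_eq_of_le W fun y hy => by
    show y ∈ ({P t} : Set _) ↔ y ∈ Set.range P
    refine ⟨fun h => ⟨t, (Set.mem_singleton_iff.1 h).symm⟩, ?_⟩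
    rintro ⟨t', rfl⟩
    exact Set.mem_singleton_iff.2 ((hW t' hy).trans ht.symm)

theorem locData_jp (hn : 0 < n) (t : Fin s) : BlowCech.LocData (Jp P hPc t) := by
  haveI := ExtFund.smoothOfRelativeDimension_projSpace (k := k) n
  obtain ⟨σ, hσ, hσc, hker, -⟩ := BlowP2.exists_point (P t) (hPc t)
  haveI := hσc
  have hi := Groth.Agent.SectRank.isRegularImmersionOfCodim_of_section n (CohB1.ProjSpace.toSpec n k) σ hσ
  rw [Jp, ← hker]
  exact BlowCech.locData_of_codim σ n hn hi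

variable (hn : 0 < n)

include hP hPc hn in
theorem locData_jz : BlowCech.LocData (JZ P hZ) := by
  intro x
  obtain ⟨V, hxV, hV⟩ := exists_only P hPc x
  by_cases hx : x ∈ Set.range P
  · obtain ⟨t, rfl⟩ := hx
    obtain ⟨W, ⟨hW, N, a, r, e, hN, ha, hI, -⟩, hxW, hWV⟩ := BlowCech.goodOpens_basis (Jp P hPc t)
      (locData_jp P hPc hn t) _ (ResDesc.isFinLocFree_structureModule _) (V := V) (P t) hxV
    exact ⟨⟨W, hW⟩, N, a, hxW, hN, ha, (ideal_jp_eq P hP hPc hZ ⟨W, hW⟩ (fun t' h => hV t' (hWV h)) rfl).symm.trans hI⟩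
  · obtain ⟨W, hW, hxW, hle⟩ := exists_isAffineOpen_mem_and_subset
      (show x ∈ (⟨(Set.range P)ᶜ, hZ.isOpen_compl⟩ : (CohB1.ProjSpace n k).Opens) from hx)
    have htop : (JZ P hZ).ideal ⟨W, hW⟩ = ⊤ := BlowBC.ideal_eq_top_of_notMem _ _ fun z hz hzs => by
      rw [← SetLike.mem_coe, Scheme.IdealSheafData.coe_support_vanishingIdeal] at hzs
      exact hle hz hzs
    exact ⟨⟨W, hW⟩, 1, fun _ => 1, hxW, Nat.one_pos, KoszulLib.acyclic_of_span_eq_top (by simp), htop.trans (by simp)⟩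

omit [IsAlgClosed k] in
include hP in
theorem adapted_kl (d : Fin s → ℕ) (l : List (Fin s)) : Adapted (JZ P hZ) (Kl P hPc d l) := by
  intro x
  obtain ⟨V, hxV, hV⟩ := exists_only P hPc x
  by_cases hx : x ∈ Set.range P
  · refine ⟨V, hxV, ?_⟩
    obtain ⟨t₀, rfl⟩ := hx
    induction l with
    | nil => exact ⟨0, fun W _ => by rw [pow_zero, Ideal.one_eq_top]; rfl⟩
    | cons t l ih =>
      obtain ⟨m, hm⟩ := ih
      by_cases ht : P t = P t₀
      · refine ⟨d t + m, fun W hW => ?_⟩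
        rw [Kl, Scheme.IdealSheafData.ideal_mul, Pi.mul_apply, Scheme.IdealSheafData.ideal_pow, Pi.pow_apply,
          hm W hW, ideal_jp_eq P hP hPc hZ W (fun t' h => hV t' (hW h)) ht, pow_add]
      · refine ⟨m, fun W hW => ?_⟩
        rw [Kl, Scheme.IdealSheafData.ideal_mul, Pi.mul_apply, Scheme.IdealSheafData.ideal_pow, Pi.pow_apply,
          hm W hW, ideal_jp_top P hPc W (fun h => ht (hV t (hW h))), ← Ideal.one_eq_top, one_pow, one_mul]
  · refine ⟨⟨(Set.range P)ᶜ, hZ.isOpen_compl⟩, hx, 0, fun W hW => ?_⟩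
    rw [pow_zero, Ideal.one_eq_top]
    induction l with
    | nil => rfl
    | cons t l ih =>
      rw [Kl, Scheme.IdealSheafData.ideal_mul, Pi.mul_apply, Scheme.IdealSheafData.ideal_pow, Pi.pow_apply,
        ih, ideal_jp_top P hPc W (fun h => hW h ⟨t, rfl⟩), ← Ideal.one_eq_top, one_pow, one_mul]

omit [IsAlgClosed k] in
theorem mem_range_of_mem_support (d : Fin s → ℕ) :
    ∀ (l : List (Fin s)) (y : ↥(CohB1.ProjSpace n k)), y ∈ (Kl P hPc d l).support → y ∈ Set.range P
  | [], y, h => by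
    have h' : y ∈ ((⊤ : (CohB1.ProjSpace n k).IdealSheafData).support : Set _) := h
    simp at h'
  | t :: l, y, h => by
    rw [Kl, Scheme.IdealSheafData.support_mul] at h
    rcases (show y ∈ ((Jp P hPc t ^ d t).support : Set _) ∪ ((Kl P hPc d l).support : Set _) from h) with h | h
    · rcases Nat.eq_zero_or_pos (d t) with h0 | h0
      · rw [h0, pow_zero] at h
        have h' : y ∈ ((⊤ : (CohB1.ProjSpace n k).IdealSheafData).support : Set _) := h
        simp at h'
      · rw [Scheme.IdealSheafData.support_pow _ _ (by omega), Scheme.IdealSheafData.coe_support_vanishingIdeal] at h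
        exact ⟨t, (Set.mem_singleton_iff.1 h).symm⟩
    · exact mem_range_of_mem_support d l y h

omit [IsAlgClosed k] in
include hPc in
theorem dim_support (d : Fin s → ℕ) (l : List (Fin s)) :
    topologicalKrullDim ((Kl P hPc d l).support : Set ↥(CohB1.ProjSpace n k)) ≤ 0 :=
  Intersect.dim_le_zero_of_closedPoints (Kl P hPc d l).support.isClosed fun y hy => by
    obtain ⟨t, rfl⟩ := mem_range_of_mem_support P hPc d l y hy
    exact hPc t

variable {X : Scheme.{u}} (π : X ⟶ CohB1.ProjSpace n k) (hπ : BlowUp.IsBlowUp π (JZ P hZ))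

omit [IsAlgClosed k] in
include hP hπ in
theorem cartier_jp (t : Fin s) : BlowUp.IsEffCartierIdeal ((Jp P hPc t).comap π) := by
  intro x
  obtain ⟨V, hxV, hV⟩ := exists_only P hPc (π x)
  obtain ⟨W, hW, hxW, hWV⟩ := exists_isAffineOpen_mem_and_subset (show π x ∈ V from hxV)
  obtain ⟨U, hxU, hUW, f, hf, he⟩ := BlowUpLib.exists_small_generator hπ.1 (O := π ⁻¹ᵁ W) hxW
  by_cases ht : P t = π x
  · refine ⟨U, hxU, f, hf, ?_⟩
    rw [FpqcDescent.ideal_comap_appLE _ π ⟨W, hW⟩ U hUW,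
      ideal_jp_eq P hP hPc hZ ⟨W, hW⟩ (fun t' h => hV t' (hWV h)) ht,
      ← FpqcDescent.ideal_comap_appLE _ π ⟨W, hW⟩ U hUW]
    exact he
  · refine ⟨U, hxU, 1, one_mem _, ?_⟩
    rw [FpqcDescent.ideal_comap_appLE _ π ⟨W, hW⟩ U hUW, ideal_jp_top P hPc ⟨W, hW⟩ (fun h => ht (hV t (hWV h))),
      Ideal.map_top, Ideal.span_singleton_one]

theorem nonempty_pow {Z : Scheme.{u}} {I : Z.IdealSheafData} (hI : BlowUp.IsEffCartierIdeal I) : ∀ m : ℕ,
    BlowUp.IsEffCartierIdeal (I ^ m) ∧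
      Nonempty (CohB1.tensorPow (ClSub.idealMod I) m ≅ ClSub.idealMod (I ^ m))
  | 0 => by
    obtain ⟨e⟩ := RatBlow.nonempty_idealMod_top (X := Z)
    rw [show I ^ 0 = (⊤ : Z.IdealSheafData) from pow_zero _]
    exact ⟨BlowUpLib.cartier_top, ⟨e.symm⟩⟩
  | m + 1 => by
    obtain ⟨hm, ⟨e⟩⟩ := nonempty_pow hI m
    obtain ⟨e'⟩ := Nakai.nonempty_idealMod_mul hm hI
    rw [pow_succ]
    exact ⟨BlowUpLib.cartier_mul hm hI, ⟨PicGrp.tensorModIso e (Iso.refl _) ≪≫ e'⟩⟩

omit [IsAlgClosed k] in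
theorem comap_pow' {Z : Scheme.{u}} (g : Z ⟶ CohB1.ProjSpace n k) (I : (CohB1.ProjSpace n k).IdealSheafData) :
    ∀ m : ℕ, (I ^ m).comap g = I.comap g ^ m
  | 0 => by
    rw [pow_zero, pow_zero]
    exact BlowUpLib.comap_eq_top _ g fun x h => by
      have h' : g x ∈ ((⊤ : (CohB1.ProjSpace n k).IdealSheafData).support : Set _) := h
      simp at h'
  | m + 1 => by rw [pow_succ, pow_succ, BlowUpLib.comap_mul, comap_pow' g I m]

omit [IsAlgClosed k] in
include hP hπ in
theorem nonempty_multi (d : Fin s → ℕ) : ∀ l : List (Fin s),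
    BlowUp.IsEffCartierIdeal ((Kl P hPc d l).comap π) ∧
    Nonempty (FGA.tensorList (l.map fun t => CohB1.tensorPow (ClSub.idealMod ((Jp P hPc t).comap π)) (d t)) ≅
      ClSub.idealMod ((Kl P hPc d l).comap π))
  | [] => by
    obtain ⟨e⟩ := RatBlow.nonempty_idealMod_top (X := X)
    have h : (Kl P hPc d []).comap π = ⊤ := BlowUpLib.comap_eq_top _ π fun x h => by
      have h' : π x ∈ ((⊤ : (CohB1.ProjSpace n k).IdealSheafData).support : Set _) := h
      simp at h'
    rw [h]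
    exact ⟨BlowUpLib.cartier_top, ⟨e.symm⟩⟩
  | t :: l => by
    obtain ⟨hl, ⟨e⟩⟩ := nonempty_multi d l
    obtain ⟨ht, ⟨e₁⟩⟩ := nonempty_pow (cartier_jp P hP hPc hZ π hπ t) (d t)
    obtain ⟨e₂⟩ := Nakai.nonempty_idealMod_mul ht hl
    rw [Kl, BlowUpLib.comap_mul, comap_pow']
    exact ⟨BlowUpLib.cartier_mul ht hl, ⟨PicGrp.tensorModIso e₁ e ≪≫ e₂⟩⟩

variable (c : ℤ)

include hP hPc hn hπ in
/-- the cohomology in degrees `≥ 2` -/
theorem subsingleton_ge_two (d : Fin s → ℕ) (i : ℕ) (hi : 2 ≤ i) (hin : i = n → -(n : ℤ) ≤ c) :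
    Subsingleton (Coh.HH X (CohB1.tensorMod ((Scheme.Modules.pullback π).obj (Twist.twistProjSpace n k c))
      (FGA.multiTwist (fun t : Fin s => ClSub.idealMod ((Jp P hPc t).comap π)) d)) i) := by
  haveI := CohFinite.isNoetherian_projSpace n k
  obtain ⟨-, ⟨e⟩⟩ := nonempty_multi P hP hPc hZ π hπ d (List.finRange s)
  have h := subsingleton_hh_tw π hπ (CohFinite.isInvertible_twist n k c) (locData_jz P hP hPc hZ hn)
    (adapted_kl P hP hPc hZ d (List.finRange s)) (dim_support P hPc d (List.finRange s)) hi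
    (ProjCech.twist_vanish (R := k) n c i (fun h => by omega) (fun h => by have := hin h.1; omega))
  exact subsingleton_hh_iso ((TMul.commIso _ _) ≪≫ PicGrp.tensorModIso (Iso.refl _) e.symm) i h

include hP hPc hn hπ in
/-- the first cohomology of the twists of a single exceptional divisor -/
theorem subsingleton_one (c d : ℕ) (p : ↥(CohB1.ProjSpace n k)) (hp : ∀ t, P t = p) (hpc : IsClosed ({p} : Set ↥(CohB1.ProjSpace n k)))
    (hd : d ≤ c + 1) :
    Subsingleton (Coh.HH X (CohB1.tensorMod ((Scheme.Modules.pullback π).obj (Twist.twistProjSpace n k (c : ℤ)))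
      (CohB1.tensorPow (ClSub.idealMod (BlowUp.exceptional π (JZ P hZ))) d)) 1) := by
  haveI := CohFinite.isNoetherian_projSpace n k
  obtain ⟨-, ⟨e⟩⟩ := nonempty_pow hπ.1 d
  rw [← comap_pow' π (JZ P hZ) d] at e
  have hK : Adapted (JZ P hZ) (JZ P hZ ^ d) := fun y => ⟨⊤, trivial, d, fun W _ => by
    rw [Scheme.IdealSheafData.ideal_pow, Pi.pow_apply]⟩
  obtain ⟨U, l₀, hpU, hg, hI, hc⟩ := exists_chart p hpc
  obtain ⟨θ₀⟩ := PnHodge.nonempty_tensorPow_twist n k c
  let θ : CohB1.tensorPow (SerrePn.Om k n ((1 : ℕ) : ℤ)) c ≅ Twist.twistProjSpace n k (c : ℤ) := θ₀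
  have h := subsingleton_hh_tw_one π hπ (CohFinite.isInvertible_twist n k (c : ℤ)) (locData_jz P hP hPc hZ hn) hK
    (ProjCech.twist_vanish (R := k) n (c : ℤ) 1 (fun h => by omega) (fun h => by omega)) p
    (fun y hy => by
      rcases Nat.eq_zero_or_pos d with rfl | h0
      · rw [pow_zero] at hy
        have h' : y ∈ ((⊤ : (CohB1.ProjSpace n k).IdealSheafData).support : Set _) := hy
        simp at h'
      · rw [Scheme.IdealSheafData.support_pow _ _ (by omega), ← SetLike.mem_coe,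
          Scheme.IdealSheafData.coe_support_vanishingIdeal] at hy
        obtain ⟨t, rfl⟩ := hy
        exact hp t)
    U.1 hpU (fun W hpW hWU a => ?_)
  · exact subsingleton_hh_iso ((TMul.commIso _ _) ≪≫ PicGrp.tensorModIso (Iso.refl _) e.symm) 1 h
  · let ρ := resO (CohB1.ProjSpace n k) hWU
    let Ip := Scheme.IdealSheafData.vanishingIdeal (⟨{p}, hpc⟩ : Closeds ↥(CohB1.ProjSpace n k))
    have hres : ∀ l : Γ(SerrePn.Om k n ((1 : ℕ) : ℤ), ⊤), res _ hWU (res _ (le_top : U.1 ≤ ⊤) l) = res _ le_top l :=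
      fun l => Groth.Agent.QC.res_res _ _ _ _
    have hmapI : Ip.ideal W = (Ip.ideal U).map ρ := (Ip.map_ideal (U := W) (V := U) hWU).symm
    have hIW : Ip.ideal W ≤ Ideal.span {y : Γ(CohB1.ProjSpace n k, W.1) | y ∈ Ip.ideal W ∧
        ∃ l, res (SerrePn.Om k n ((1 : ℕ) : ℤ)) (le_top : W.1 ≤ ⊤) l = y • res _ (le_top : W.1 ≤ ⊤) l₀} := by
      rw [hmapI]
      refine le_trans (Ideal.map_mono hI) ?_
      rw [Ideal.map_span]
      refine Ideal.span_mono ?_
      rintro _ ⟨y, ⟨hy, l, hl⟩, rfl⟩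
      refine ⟨Ideal.mem_map_of_mem _ hy, l, ?_⟩
      rw [← hres l, hl, res_smul, hres]
    have hcW : ∀ b : Γ(CohB1.ProjSpace n k, W.1), ∃ r : Γ(CohB1.ProjSpace n k, ⊤),
        b - resO _ le_top r ∈ Ip.ideal W := by
      intro b
      obtain ⟨r, hr⟩ := exists_const p hpc W hpW b
      exact ⟨_, hr⟩
    obtain ⟨α, hα⟩ := ((TMul.isGen_pw (hg.res hWU) c) W.1 le_rfl).2 (θ.inv.app W.1 a)
    obtain ⟨G, r, hr, hG⟩ := exists_global (res _ hWU (res (SerrePn.Om k n ((1 : ℕ) : ℤ)) (le_top : U.1 ≤ ⊤) l₀))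
      (Ip.ideal W) (by rw [hres]; exact hIW) hcW l₀ (hres l₀).symm c d hd α
    refine ⟨θ.hom.app ⊤ G, r, ?_, θ.hom.app W.1 (TMul.pw (res _ hWU (res (SerrePn.Om k n ((1 : ℕ) : ℤ)) (le_top : U.1 ≤ ⊤) l₀)) c), ?_⟩
    · rw [Scheme.IdealSheafData.ideal_pow, Pi.pow_apply]
      refine Ideal.pow_right_mono ?_ d hr
      rw [Scheme.IdealSheafData.vanishingIdeal_ideal, Scheme.IdealSheafData.vanishingIdeal_ideal]
      refine PrimeSpectrum.vanishingIdeal_anti_mono fun z hz => ?_
      obtain ⟨t, ht⟩ := (show W.2.fromSpec z ∈ Set.range P from hz)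
      exact (ht.symm.trans (hp t) : W.2.fromSpec z = p)
    · rw [Groth.Agent.QC.app_res, hG, add_smul, map_add, Scheme.Modules.Hom.app_smul θ.hom r]
      refine congrArg (· + _) ?_
      refine (congrArg (θ.hom.app W.1) ?_).trans
        (ConcreteCategory.congr_hom (congrArg (fun ψ => Scheme.Modules.Hom.app ψ W.1) θ.inv_hom_id) a)
      refine Eq.trans ?_ hα
      show _ • _ = _ • res _ le_rfl _
      rw [Groth.Agent.QC.res_self]

end Groth.Agent.BlowPn
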