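import Groth.Agent.BlowP2.Euler
import Groth.Agent.GrassQ.Wedge
import Groth.Agent.ResDesc.ResProp
import Groth.Agent.PnReg.KPush
import Groth.Agent.SuppZero.Basic
import Groth.Agent.DQCoh.Tensor
import Groth.Agent.BlowCech.UnitSES
import Mathlib

/-!
# Twists of a comapped ideal on a blow-up
-/

set_option autoImplicit false
set_option backward.isDefEq.respectTransparency false
set_option backward.isDefEq.respectTransparency.types false
set_option maxHeartbeats 1000000
set_option linter.style.haveILetI false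

universe u

open CategoryTheory CategoryTheory.Limits AlgebraicGeometry TopologicalSpace Opposite
open Groth.Agent.SiteCoh
open Groth.Agent.QC (res resO res_smul)
open Groth.Agent.BlowCech (Charts LocData)

noncomputable section

namespace Groth.Agent.BlowPn

open Wiebe (Acyclic)

variable {X Y : Scheme.{u}} (σ : X ⟶ Y)

/-- `K` is locally a power of `J` -/
def Adapted (J K : Y.IdealSheafData) : Prop :=
  ∀ y : Y, ∃ V : Y.Opens, y ∈ V ∧ ∃ m : ℕ, ∀ W : Y.affineOpens, W.1 ≤ V → K.ideal W = J.ideal W ^ m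

/-- affine opens over which the twist is visibly acyclic -/
def Good (J K : Y.IdealSheafData) (E : Y.Modules) : Set Y.Opens :=
  {W | ∃ (hW : IsAffineOpen W) (N : ℕ) (a : Fin N → Γ(Y, W)) (e : Γ(E, W)) (m : ℕ),
    0 < N ∧ Acyclic a ∧ J.ideal ⟨W, hW⟩ = Ideal.span (Set.range a) ∧ K.ideal ⟨W, hW⟩ = J.ideal ⟨W, hW⟩ ^ m ∧
      TMul.IsGen e}

theorem good_basis {J K : Y.IdealSheafData} (hJ : LocData J) (hK : Adapted J K) {E : Y.Modules}
    (hE : PicF.IsInvertible E) {V : Y.Opens} (y : Y) (hy : y ∈ V) : ∃ W ∈ Good J K E, y ∈ W ∧ W ≤ V := by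
  obtain ⟨V₁, hy₁, m, hm⟩ := hK y
  obtain ⟨U, e, hyU, he⟩ := TMul.exists_isGen hE y
  obtain ⟨W, ⟨hW, N, a, r, -, hN, ha, hI, -⟩, hyW, hle⟩ := BlowCech.goodOpens_basis J hJ E
    (ResDesc.isFinLocFree_of_isInvertible hE) (V := V ⊓ V₁ ⊓ U) y ⟨⟨hy, hy₁⟩, hyU⟩
  exact ⟨W, ⟨hW, N, a, res E (hle.trans inf_le_right) e, m, hN, ha, hI,
    hm ⟨W, hW⟩ (hle.trans (inf_le_left.trans inf_le_right)), he.res _⟩, hyW, hle.trans (inf_le_left.trans inf_le_left)⟩

/-- the twist `π^*E ⊗ D`, `D` the inverse image of `K` -/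
abbrev Tw (K : Y.IdealSheafData) (E : Y.Modules) : X.Modules :=
  CohB1.tensorMod (ClSub.idealMod (K.comap σ)) ((Scheme.Modules.pullback σ).obj E)

/-- the twist `π^*E` on the divisor -/
abbrev TwQ (K : Y.IdealSheafData) (E : Y.Modules) : X.Modules :=
  CohB1.tensorMod (ClSub.quotMod (K.comap σ)) ((Scheme.Modules.pullback σ).obj E)

theorem isGen_pullback {E : Y.Modules} {W : Y.Opens} {e : Γ(E, W)} (he : TMul.IsGen e) :
    TMul.IsGen (X := X) (N := (Scheme.Modules.pullback σ).obj E) (U := σ ⁻¹ᵁ W)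
      (((Scheme.Modules.pullbackPushforwardAdjunction σ).unit.app E).app W e) :=
  (GrassQ.isFrame_one_iff _).1
    (TMul.IsFrame.pullback σ (e₀ := fun _ : Fin 1 => e) ((GrassQ.isFrame_one_iff _).2 he))

variable {σ} in
/-- twisted ideal powers are twisted functions -/
def idealTensorTwist {U : Y.affineOpens} {N : ℕ} {a : Fin N → Γ(Y, U.1)} (C : Charts σ U a) (D : X.IdealSheafData)
    {L : X.Modules} {g : Γ(L, σ ⁻¹ᵁ U.1)} (hg : TMul.IsGen g) (m : ℕ)
    (hD : ∀ (S : Finset (Fin N)) (hS : S.Nonempty), D.ideal ⟨C.DS S, C.affine_DS hS⟩ = C.IS S ^ m) :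
    C.Twist (res' (𝟭 X.Opens) (Coh.toAb (CohB1.tensorMod (ClSub.idealMod D) L))) (m : ℤ) 0 where
  Φ S := AddMonoidHom.mk'
    (fun s => (ClSub.idealModι D).app (C.DS S)
      ((Equiv.ofBijective _ (TMul.tm_bijective (M := ClSub.idealMod D) hg (C.DS S) (C.DS_le_U S))).symm s))
    (fun s t => by
      refine (congrArg _ ?_).trans (map_add _ _ _)
      apply (Equiv.ofBijective _ (TMul.tm_bijective (M := ClSub.idealMod D) hg (C.DS S) (C.DS_le_U S))).injective
      rw [Equiv.apply_symm_apply]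
      show s + t = TMul.tm (_ + _) _
      rw [TMul.tm_add]
      let e := Equiv.ofBijective _ (TMul.tm_bijective (M := ClSub.idealMod D) hg (C.DS S) (C.DS_le_U S))
      have h : ∀ {A : Type u} (f : A → A → A) {a a' b b' : A}, a' = a → b' = b → f a b = f a' b' := by
        intro A f a a' b b' h₁ h₂
        subst h₁ h₂
        rfl
      exact h _ (e.apply_symm_apply s) (e.apply_symm_apply t))
  inj S _ s t h := (Equiv.ofBijective _ (TMul.tm_bijective (M := ClSub.idealMod D) hg (C.DS S) (C.DS_le_U S))).symm.injective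
    (QC.app_injective_of_mono (ClSub.idealModι D) (C.DS S) h)
  range S hS v := by
    let e := Equiv.ofBijective _ (TMul.tm_bijective (M := ClSub.idealMod D) hg (C.DS S) (C.DS_le_U S))
    show v ∈ Set.range ((ClSub.idealModι D).app (C.DS S) ∘ e.symm) ↔ _
    rw [e.symm.surjective.range_comp, QC.mem_range_idealModι_affine _ ⟨C.DS S, C.affine_DS hS⟩, hD S hS]
    simp
  map S T h _ s := by
    rw [pow_zero, map_one, mul_one]
    let e := fun R : Finset (Fin N) =>
      Equiv.ofBijective _ (TMul.tm_bijective (M := ClSub.idealMod D) hg (C.DS R) (C.DS_le_U R))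
    show (ClSub.idealModι D).app (C.DS T) ((e T).symm (res _ (C.DS_anti h) s)) =
      resO X (C.DS_anti h) ((ClSub.idealModι D).app (C.DS S) ((e S).symm s))
    refine Eq.trans (congrArg ((ClSub.idealModι D).app (C.DS T)) ?_)
      (QC.app_res (ClSub.idealModι D) (C.DS_anti h) ((e S).symm s)).symm
    apply (e T).injective
    rw [Equiv.apply_symm_apply]
    refine ((TMul.res_tm (M := ClSub.idealMod D) (C.DS_anti h) ((e S).symm s) (res L (C.DS_le_U S) g)).symm.trans
      (congrArg (res _ (C.DS_anti h)) ((e S).apply_symm_apply s))).symm.trans ?_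
    show TMul.tm _ _ = TMul.tm _ _
    rw [Groth.Agent.QC.res_res]

theorem isQCoh_tw (K : Y.IdealSheafData) {E : Y.Modules} (hE : PicF.IsInvertible E) : Coh.IsQCoh (Tw σ K E) :=
  DQCoh.isQCoh_tensor (QC.isQCoh_idealMod _)
    (QC.isQCoh_pullback σ (LocFree.isQCoh_of_isFinLocFree (ResDesc.isFinLocFree_of_isInvertible hE)))

variable {J K : Y.IdealSheafData} (hb : BlowUp.IsBlowUp σ J) {E : Y.Modules}

include hb in
theorem subsingleton_hu (hE : PicF.IsInvertible E) {W : Y.Opens} (hW : W ∈ Good J K E) (q : ℕ) :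
    Subsingleton (CohSite.HU (Coh.toAb (Tw σ K E)) (q + 1) (σ ⁻¹ᵁ W)) := by
  obtain ⟨hWa, N, a, e, m, hN, ha, hI, hm, he⟩ := hW
  obtain ⟨C⟩ := BlowCech.exists_charts J hb ⟨W, hWa⟩ a hI
  haveI : (Tw σ K E).IsQuasicoherent := isQCoh_tw σ K hE
  refine Charts.subsingleton_hu _ (idealTensorTwist C (K.comap σ) (isGen_pullback σ he) m fun S hS => ?_)
    ha hN (by omega) (by omega) q
  rw [FpqcDescent.ideal_comap_appLE K σ ⟨W, hWa⟩ ⟨C.DS S, C.affine_DS hS⟩ (C.DS_le_U S), hm, Ideal.map_pow, hI]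

/-- the sequence `π^*E ⊗ D → π^*E → π^*E|D` -/
abbrev seq (K : Y.IdealSheafData) (E : Y.Modules) : ShortComplex X.Modules :=
  ShortComplex.mk (CohFinite.tmap (ClSub.idealModι (K.comap σ)) ((Scheme.Modules.pullback σ).obj E))
    (CohFinite.tmap (ClSub.toSubscheme (K.comap σ)) ((Scheme.Modules.pullback σ).obj E))
    (by rw [← CohFinite.tmap_comp, show ClSub.idealModι (K.comap σ) ≫ ClSub.toSubscheme (K.comap σ) = 0 from kernel.condition _, CohFinite.tmap_zero])

variable (hE : PicF.IsInvertible E)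

include hE in
theorem isInvertible_pullback : PicF.IsInvertible ((Scheme.Modules.pullback σ).obj E) := by
  refine InvGen.isInvertible fun x => ?_
  obtain ⟨W, e, hxW, he⟩ := TMul.exists_isGen hE (σ x)
  exact ⟨σ ⁻¹ᵁ W, _, hxW, isGen_pullback σ he⟩

include hE in
theorem seq_shortExact : (seq σ K E).ShortExact := by
  have h := CohFinite.shortExact_tmap (isInvertible_pullback σ hE) (CurveRR.ideal_shortExact (K.comap σ))
  dsimp only at h
  exact h

variable (hJ : LocData J) (hK : Adapted J K)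

include hb hE hJ hK in
theorem directAcyclic_tw : DirectAcyclic (Opens.grothendieckTopology Y) (Opens.map σ.base) (Coh.toAb (Tw σ K E)) := by
  obtain ⟨_, _⟩ := BlowCech.qc_qs J hJ hb
  choose W hW hyW hWV using fun y : Y => good_basis hJ hK hE (V := ⊤) y trivial
  exact CohFinite.directAcyclic_of_hu_vanish σ _ (isQCoh_tw σ K hE) W (fun y => (hW y).1) (fun y => ⟨y, hyW y⟩)
    fun y q => subsingleton_hu σ hb hE (hW y) q

include hb hE hJ in
theorem directAcyclic_pullback :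
    DirectAcyclic (Opens.grothendieckTopology Y) (Opens.map σ.base) (Coh.toAb ((Scheme.Modules.pullback σ).obj E)) :=
  fun q => locKilled_of_isZero _
    (BlowCech.isZero_rpush_pullback hJ hb (ResDesc.isFinLocFree_of_isInvertible hE) (q + 1) (by omega))

include hb hE hJ hK in
theorem directAcyclic_twQ : DirectAcyclic (Opens.grothendieckTopology Y) (Opens.map σ.base) (Coh.toAb (TwQ σ K E)) :=
  fun q => BlowCech.locKilled_X₃ (Opens.map σ.base) (CohQC.seq_shortExact (seq_shortExact σ hE))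
    (locKilled_of_isZero _ ((BlowCech.isZero_rpush_pullback hJ hb (ResDesc.isFinLocFree_of_isInvertible hE) (q + 1)
      (by omega)).of_iso ((Coh.RpushAb σ (q + 1)).mapIso ((CohQC.toAbF X).mapIso (TMul.leftUnitIso _)))))
    (directAcyclic_tw σ hb hE hJ hK (q + 1))

include hE in
/-- no sections off the divisor -/
theorem twQ_eq_zero {O : X.Opens} (hO : ∀ x ∈ O, σ x ∉ K.support) (z : Γ(TwQ σ K E, O)) : z = 0 := by
  refine Groth.Agent.QC.section_eq_of_locally fun x hx => ?_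
  obtain ⟨V, hV, e, hxV, he⟩ := CohFinite.exists_gen_le (isInvertible_pullback σ hE) hx
  obtain ⟨m, hm⟩ := (TMul.tm_bijective (M := ClSub.quotMod (K.comap σ)) he V le_rfl).2 (res _ hV z)
  refine ⟨V, hV, hxV, ?_⟩
  have hbot : (K.comap σ).subschemeι ⁻¹ᵁ V ≤ ⊥ := fun w hw => by
    have h : (K.comap σ).subschemeι w ∈ (K.comap σ).support := by
      rw [← SetLike.mem_coe, ← Scheme.IdealSheafData.range_subschemeι]; exact ⟨w, rfl⟩
    rw [Scheme.IdealSheafData.support_comap] at h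
    exact hO _ (hV hw) h
  have hm0 : m = 0 := by
    refine Groth.Agent.QC.section_eq_of_locally (M := Coh.structureModule (K.comap σ).subscheme)
      (U := (K.comap σ).subschemeι ⁻¹ᵁ V) fun w hw => (hbot hw).elim
  rw [map_zero, ← hm, hm0]
  exact TMul.zero_tm _

include hE in
/-- the sections on the divisor are killed by the ideal -/
theorem twQ_smul {W : Y.affineOpens} {r : Γ(Y, W.1)} (hr : r ∈ K.ideal W) (z : Γ(TwQ σ K E, σ ⁻¹ᵁ W.1)) :
    σ.app W.1 r • z = 0 := by
  refine Groth.Agent.QC.section_eq_of_locally fun x hx => ?_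
  obtain ⟨V₁, hV₁, e, hxV₁, he⟩ := CohFinite.exists_gen_le (isInvertible_pullback σ hE) hx
  obtain ⟨V, hV, hxV, hVV⟩ := exists_isAffineOpen_mem_and_subset (X := X) (U := V₁) hxV₁
  have hle : V ≤ σ ⁻¹ᵁ W.1 := le_trans hVV hV₁
  obtain ⟨m, hm⟩ := (TMul.tm_bijective (M := ClSub.quotMod (K.comap σ)) he V hVV).2 (res _ hle z)
  refine ⟨V, hle, hxV, ?_⟩
  rw [map_zero, res_smul, ← hm]
  refine (TMul.smul_tm _ m _).symm.trans ?_
  have h0 : resO X hle (σ.app W.1 r) • m = 0 := by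
    have hmem : σ.appLE W.1 V hle r ∈ (K.comap σ).ideal ⟨V, hV⟩ := by
      rw [FpqcDescent.ideal_comap_appLE K σ W ⟨V, hV⟩ hle]
      exact Ideal.mem_map_of_mem _ hr
    rw [← Scheme.IdealSheafData.ker_subschemeι (K.comap σ), Scheme.Hom.ker_apply, RingHom.mem_ker] at hmem
    show (K.comap σ).subschemeι.app V (σ.appLE W.1 V hle r) •
      (show Γ(Coh.structureModule (K.comap σ).subscheme, (K.comap σ).subschemeι ⁻¹ᵁ V) from m) = _
    rw [hmem]
    exact zero_smul _ _
  rw [h0]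
  exact TMul.zero_tm _

theorem subsingleton_hh_iso {Z : Scheme.{u}} {M N : Z.Modules} (e : M ≅ N) (i : ℕ)
    (h : Subsingleton (Coh.HH Z M i)) : Subsingleton (Coh.HH Z N i) := by
  let e₀ : Coh.toAb M ≅ Coh.toAb N := (SheafOfModules.toSheaf Z.ringCatSheaf).mapIso e
  refine subsingleton_of_forall_eq (Sheaf.H.map e₀.hom i (Sheaf.H.map e₀.inv i (0 : Coh.HH Z N i))) fun x => ?_
  have hx : Sheaf.H.map e₀.hom i (Sheaf.H.map e₀.inv i x) = x := by
    rw [← Sheaf.H.map_comp_apply, Iso.inv_hom_id, Sheaf.H.map_id_apply]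
  rw [← hx]
  exact congrArg _ (h.elim _ _)

variable [NoetherianSpace Y] (hZ : topologicalKrullDim (K.support : Set Y) ≤ 0)

include hb hE hJ hK hZ in
theorem subsingleton_hh_twQ (i : ℕ) (hi : 1 ≤ i) : Subsingleton (Coh.HH X (TwQ σ K E) i) := by
  obtain ⟨a, -⟩ := CohFinite.h_push_natural σ.base i
  have this : Subsingleton (Coh.HH Y ((Scheme.Modules.pushforward σ).obj (TwQ σ K E)) i) :=
    SuppZero.subsingleton_hh_of_supported K.support.isClosed hZ _ (fun y hy => by
      rw [Groth.Agent.QC.notMem_support_iff]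
      intro O hyO s
      exact ⟨O ⊓ ⟨(K.support : Set Y)ᶜ, K.support.isClosed.isOpen_compl⟩, inf_le_left, ⟨hyO, hy⟩,
        twQ_eq_zero σ hE (O := σ ⁻¹ᵁ (O ⊓ ⟨(K.support : Set Y)ᶜ, K.support.isClosed.isOpen_compl⟩)) (fun x hx => hx.2) _⟩) i hi
  exact @Equiv.subsingleton _ _ (a (Coh.toAb (TwQ σ K E)) (directAcyclic_twQ σ hb hE hJ hK)).toEquiv this

include hb hE hJ in
theorem subsingleton_hh_mid {i : ℕ} (h : Subsingleton (Coh.HH Y E i)) :
    Subsingleton (Coh.HH X (seq σ K E).X₂ i) := by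
  haveI := BlowCech.isIso_unit_locFree hJ hb (ResDesc.isFinLocFree_of_isInvertible hE)
  obtain ⟨a, -⟩ := CohFinite.h_push_natural σ.base i
  let e := (Scheme.Modules.pullbackPushforwardAdjunction σ).unit.app E
  have h1 : Subsingleton (Coh.HH Y ((Scheme.Modules.pushforward σ).obj ((Scheme.Modules.pullback σ).obj E)) i) :=
    subsingleton_hh_iso (asIso e) i h
  have h2 : Subsingleton (Coh.HH X ((Scheme.Modules.pullback σ).obj E) i) :=
    @Equiv.subsingleton _ _ (a (Coh.toAb _) (directAcyclic_pullback σ hb hE hJ)).toEquiv h1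
  exact subsingleton_hh_iso (TMul.leftUnitIso ((Scheme.Modules.pullback σ).obj E)).symm i h2

include hb hE hJ hK hZ in
/-- the twist has no more cohomology in degrees `≥ 2` than `E` -/
theorem subsingleton_hh_tw {i : ℕ} (hi : 2 ≤ i) (h : Subsingleton (Coh.HH Y E i)) :
    Subsingleton (Coh.HH X (Tw σ K E) i) := by
  obtain ⟨j, rfl⟩ : ∃ j, i = j + 1 := ⟨i - 1, by omega⟩
  have hS := CohQC.seq_shortExact (seq_shortExact σ (K := K) hE)
  have hm := subsingleton_hh_mid σ (K := K) hb hE hJ h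
  refine subsingleton_of_forall_eq 0 fun x => ?_
  obtain ⟨y, rfl⟩ := (CohFinite.map_f_eq_zero_iff hS j x).1 (hm.elim _ _)
  have hq : Subsingleton (Coh.HH X (TwQ σ K E) j) := subsingleton_hh_twQ σ hb hE hJ hK hZ j (by omega)
  rw [show y = 0 from hq.elim _ _, map_zero]

include hb hE hJ hK in
/-- first cohomology: sections on the divisor that come from global sections -/
theorem subsingleton_hh_tw_one (h : Subsingleton (Coh.HH Y E 1)) (p : Y) (hp : ∀ y ∈ K.support, y = p)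
    (U : Y.Opens) (hpU : p ∈ U)
    (hglob : ∀ W : Y.affineOpens, p ∈ W.1 → W.1 ≤ U → ∀ s : Γ(E, W.1), ∃ G : Γ(E, ⊤), ∃ r ∈ K.ideal W,
      ∃ t : Γ(E, W.1), res E (le_top : W.1 ≤ ⊤) G = s + r • t) :
    Subsingleton (Coh.HH X (Tw σ K E) 1) := by
  have hseq := seq_shortExact σ (K := K) hE
  have hS := CohQC.seq_shortExact hseq
  have hm := subsingleton_hh_mid σ (K := K) hb hE hJ h
  have hsurj : Function.Surjective ((seq σ K E).g.app ⊤) := by
    intro z
    obtain ⟨W, hW, hpW, hWU⟩ := good_basis hJ hK hE (V := U) p hpU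
    obtain ⟨w, hw⟩ := BlowCech.surjective_app_of_hu hseq (σ ⁻¹ᵁ W) (subsingleton_hu σ hb hE hW 0)
      (res (TwQ σ K E) le_top z)
    let η := (Scheme.Modules.pullbackPushforwardAdjunction σ).unit.app E
    haveI : IsIso η := BlowCech.isIso_unit_locFree hJ hb (ResDesc.isFinLocFree_of_isInvertible hE)
    let ι' := TMul.leftUnitIso ((Scheme.Modules.pullback σ).obj E)
    let φ : E ⟶ (Scheme.Modules.pushforward σ).obj (TwQ σ K E) :=
      η ≫ (Scheme.Modules.pushforward σ).map (ι'.inv ≫ (seq σ K E).g)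
    obtain ⟨s, hs⟩ := (ConcreteCategory.bijective_of_isIso (η.app W)).2 (ι'.hom.app (σ ⁻¹ᵁ W) w)
    have hφs : φ.app W s = res (TwQ σ K E) le_top z := by
      show (seq σ K E).g.app (σ ⁻¹ᵁ W) (ι'.inv.app (σ ⁻¹ᵁ W) (η.app W s)) = _
      rw [hs, ← hw]
      exact congrArg ((seq σ K E).g.app (σ ⁻¹ᵁ W))
        (ConcreteCategory.congr_hom (congrArg (fun ψ => Scheme.Modules.Hom.app ψ (σ ⁻¹ᵁ W)) ι'.hom_inv_id) w)
    obtain ⟨G, r, hr, t, hG⟩ := hglob ⟨W, hW.1⟩ hpW hWU s
    change Γ(E, W) at t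
    change Γ(Y, W) at r
    refine ⟨ι'.inv.app (σ ⁻¹ᵁ ⊤) (η.app ⊤ G), ?_⟩
    refine TopCat.Sheaf.eq_of_locally_eq' (Groth.Agent.QC.abSheaf (TwQ σ K E))
      (fun b : Bool => if b then σ ⁻¹ᵁ W else σ ⁻¹ᵁ ⟨(K.support : Set Y)ᶜ, K.support.isClosed.isOpen_compl⟩)
      ⊤ (fun b => homOfLE le_top) (fun x _ => Opens.mem_iSup.mpr (by
        by_cases hx : σ x ∈ K.support
        · exact ⟨true, show σ x ∈ W from (hp _ hx).symm ▸ hpW⟩
        · exact ⟨false, hx⟩)) _ _ ?_
    rintro (_ | _)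
    · exact (twQ_eq_zero σ hE (fun x hx => hx) _).trans (twQ_eq_zero σ hE (fun x hx => hx) _).symm
    · show res (TwQ σ K E) le_top ((seq σ K E).g.app ⊤ (ι'.inv.app ⊤ (η.app ⊤ G))) = res (TwQ σ K E) le_top z
      refine Eq.trans (Groth.Agent.QC.app_res φ (le_top : W ≤ ⊤) G) ?_
      rw [show res E (le_top : W ≤ ⊤) G = (show Γ(E, W) from s) + r • t from hG, map_add, Scheme.Modules.Hom.app_smul,
        show φ.app W (show Γ(E, W) from s) = res (TwQ σ K E) le_top z from hφs]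
      exact (congrArg _ (twQ_smul σ hE hr (φ.app W t))).trans (add_zero _)
  refine subsingleton_of_forall_eq 0 fun x => ?_
  obtain ⟨y, rfl⟩ := (CohFinite.map_f_eq_zero_iff hS 0 x).1 (hm.elim _ _)
  rw [CohFinite.δH_eq_zero_iff]
  have hT : IsTerminal (⊤ : X.Opens) := isTerminalTop
  obtain ⟨w, hw⟩ := hsurj (Sheaf.H.equiv₀ (Coh.toAb (TwQ σ K E)) hT y)
  refine ⟨(Sheaf.H.equiv₀ (Coh.toAb (seq σ K E).X₂) hT).symm w,
    (Sheaf.H.equiv₀ (Coh.toAb (TwQ σ K E)) hT).injective ?_⟩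
  refine Eq.trans ?_ hw
  exact (Sheaf.H.equiv₀_naturality (f := (SheafOfModules.toSheaf X.ringCatSheaf).map (seq σ K E).g) (hT := hT)
    (x := (Sheaf.H.equiv₀ (Coh.toAb (seq σ K E).X₂) hT).symm w)).symm.trans
    (congrArg ((seq σ K E).g.app ⊤) (AddEquiv.apply_symm_apply _ w))

end Groth.Agent.BlowPn
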